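import Cfsg.Agent.H108.Conn
import Cfsg.Agent.ClassicalGeometry.HermOrtho
import Cfsg.Agent.ClassicalGeometry.UnitGenTwo

/-!
# Growing nondegenerate subspaces all of whose isotropic vectors are full (helper108)

`ND q M` : the subspace `M` is nondegenerate.
* `conn_unit` : transitivity on norm one vectors of `M`;
* `conn_iso` : transitivity on nonzero isotropic vectors of `M`, `dim M ≥ 3`;
* `extend_one` : from `M` and a full vector `m + d'`, `d' ∈ M^⊥` anisotropic, `m ≠ 0`, to `M ⊕ ⟨d'⟩`;
* `extend_two` : from `M`, a full vector `m + d'`, `d' ∈ M^⊥` isotropic, `m, d' ≠ 0`, and a full vector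
  not orthogonal to `d'`, to `M ⊕ P`, `P ∋ d'` a hyperbolic plane of `M^⊥`.
-/

set_option autoImplicit false

namespace Cfsg.Agent.H108.FullTr

open Cfsg Module Cfsg.Agent.LieClassical.HermBasic Cfsg.Agent.ClassicalGeometry.UnitTransv
open Cfsg.Agent.ClassicalGeometry.HermOrtho
open scoped Matrix

section Basic

variable {F : Type*} [Field F] {n : ℕ}

/-- The subspace `M` is nondegenerate. -/
def ND (q : ℕ) (M : Submodule F (Fin n → F)) : Prop :=
  ∀ u ∈ M, (∀ v ∈ M, hermForm n F q u v = 0) → u = 0

end Basic

variable {F : Type*} [Field F] [Fintype F] {n q : ℕ} (hF : Fintype.card F = q ^ 2)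
include hF

/-- A unit vector of `M` orthogonal to a proper nondegenerate subspace. -/
theorem exists_unit_perp {W M : Submodule F (Fin n → F)} (hW : ND q W) (hM : ND q M)
    (hWM : W ≤ M) (hne : W ≠ M) :
    ∃ s ∈ M, (∀ w ∈ W, hermForm n F q s w = 0) ∧ hermForm n F q s s = 1 := by
  set W' : Submodule F (Fin n → F) := M ⊓ hermPerp q (W : Set (Fin n → F)) with hW'
  have hnd : ∀ u ∈ W', (∀ v ∈ W', hermForm n F q u v = 0) → u = 0 := by
    intro u hu h
    refine hM u hu.1 fun y hy => ?_
    obtain ⟨w, hw, u', hu', rfl⟩ := exists_add_perp hF W hW y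
    have hu'M : u' ∈ M := by
      have := M.sub_mem hy (hWM hw)
      rwa [add_sub_cancel_left] at this
    rw [herm_add_right hF, h u' ⟨hu'M, hu'⟩, add_zero]
    exact hu.2 w hw
  have hbot : W' ≠ ⊥ := by
    intro hb
    apply hne
    refine le_antisymm hWM fun y hy => ?_
    obtain ⟨w, hw, u', hu', rfl⟩ := exists_add_perp hF W hW y
    have hu'M : u' ∈ M := by
      have := M.sub_mem hy (hWM hw)
      rwa [add_sub_cancel_left] at this
    have : u' ∈ W' := ⟨hu'M, hu'⟩
    rw [hb, Submodule.mem_bot] at this
    rw [this, add_zero]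
    exact hw
  obtain ⟨s, hs, hss⟩ := exists_norm_one_vector hF W' hnd hbot
  exact ⟨s, hs.1, fun w hw => hs.2 w hw, hss⟩

omit [Fintype F] hF in
theorem finrank_span_singleton_le (v : Fin n → F) : finrank F (Submodule.span F {v}) ≤ 1 := by
  classical
  have := finrank_span_le_card (R := F) ({v} : Set (Fin n → F))
  simpa using this

omit [Fintype F] hF in
theorem finrank_span_pair_le (u v : Fin n → F) : finrank F (Submodule.span F {u, v}) ≤ 2 := by
  classical
  have := finrank_span_le_card (R := F) ({u, v} : Set (Fin n → F))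
  refine this.trans ?_
  rw [Set.toFinset_card]
  refine (Fintype.card_le_of_injective (fun x : ({u, v} : Set (Fin n → F)) =>
    if (x : Fin n → F) = u then (0 : Fin 2) else 1) ?_).trans (by simp)
  rintro ⟨x, hx⟩ ⟨y, hy⟩ hxy
  rw [Subtype.mk.injEq]
  simp only at hxy
  rcases hx with rfl | rfl <;> rcases hy with rfl | rfl
  · rfl
  · by_contra hne
    rw [if_pos rfl, if_neg (Ne.symm hne)] at hxy
    exact absurd hxy (by decide)
  · by_contra hne
    rw [if_pos rfl, if_neg hne] at hxy
    exact absurd hxy (by decide)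
  · rfl

omit [Fintype F] hF in
theorem nd_singleton {v : Fin n → F} (hv : hermForm n F q v v ≠ 0) :
    ND q (Submodule.span F {v}) := by
  intro u hu h
  obtain ⟨a, rfl⟩ := Submodule.mem_span_singleton.1 hu
  have h1 := h v (Submodule.mem_span_singleton_self v)
  rw [herm_smul_left] at h1
  rw [(mul_eq_zero.1 h1).resolve_right hv, zero_smul]

theorem nd_pair {u v : Fin n → F} (hu : hermForm n F q u u = 0) (hv : hermForm n F q v v = 0)
    (huv : hermForm n F q u v ≠ 0) : ND q (Submodule.span F {u, v}) := by
  intro x hx h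
  obtain ⟨a, b, rfl⟩ := Submodule.mem_span_pair.1 hx
  have h1 := h u (Submodule.subset_span (by simp))
  have h2 := h v (Submodule.subset_span (by simp))
  have hvu : hermForm n F q v u ≠ 0 := fun h => huv (herm_eq_zero_swap hF h)
  rw [herm_add_left, herm_smul_left, herm_smul_left, hu, mul_zero, zero_add] at h1
  rw [herm_add_left, herm_smul_left, herm_smul_left, hv, mul_zero, add_zero] at h2
  rw [(mul_eq_zero.1 h1).resolve_right hvu, (mul_eq_zero.1 h2).resolve_right huv]
  simp

/-- In a nondegenerate subspace of dimension at least three there is a unit vector orthogonal to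
any given vector. -/
theorem exists_unit_perp_vec {M : Submodule F (Fin n → F)} (hM : ND q M) (hk : 3 ≤ finrank F M)
    (v : Fin n → F) : ∃ s ∈ M, hermForm n F q s v = 0 ∧ hermForm n F q s s = 1 := by
  obtain ⟨b, hbM, hb⟩ := exists_orthonormal hF M hM rfl
  let i : Fin (finrank F M) := ⟨0, by omega⟩
  let j : Fin (finrank F M) := ⟨1, by omega⟩
  let k : Fin (finrank F M) := ⟨2, by omega⟩
  have hij : i ≠ j := by simp [i, j]
  have hik : i ≠ k := by simp [i, k]
  have hjk : j ≠ k := by simp [j, k]
  by_cases h : hermForm n F q (b i) v = 0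
  · exact ⟨b i, hbM i, h, by rw [hb]; simp⟩
  by_cases h2 : hermForm n F q (b j) v = 0
  · exact ⟨b j, hbM j, h2, by rw [hb]; simp⟩
  by_cases h3 : hermForm n F q (b k) v = 0
  · exact ⟨b k, hbM k, h3, by rw [hb]; simp⟩
  set ci := hermForm n F q (b i) v with hci
  set cj := hermForm n F q (b j) v with hcj
  set ck := hermForm n F q (b k) v with hck
  set w : Fin n → F := ci • b j - cj • b i with hw
  set w' : Fin n → F := ci • b k - ck • b i with hw'
  have hwM : w ∈ M := M.sub_mem (M.smul_mem _ (hbM j)) (M.smul_mem _ (hbM i))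
  have hwM' : w' ∈ M := M.sub_mem (M.smul_mem _ (hbM k)) (M.smul_mem _ (hbM i))
  have hwv : hermForm n F q w v = 0 := by
    rw [hw, herm_sub_left, herm_smul_left, herm_smul_left, ← hci, ← hcj]; ring
  have hwv' : hermForm n F q w' v = 0 := by
    rw [hw', herm_sub_left, herm_smul_left, herm_smul_left, ← hci, ← hck]; ring
  have hww' : hermForm n F q w w' ≠ 0 := by
    have : hermForm n F q w w' = cj * ck ^ q := by
      rw [hw, hw', herm_sub_left, herm_sub_right hF, herm_sub_right hF]
      simp only [herm_smul_left, herm_smul_right, hb, if_neg hjk, if_neg hij.symm, if_neg hik,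
        if_true]
      ring
    rw [this]
    exact mul_ne_zero h2 (pow_ne_zero _ h3)
  obtain ⟨a, c, hac⟩ := Cfsg.Agent.ClassicalGeometry.UnitGenTwo.exists_norm_one_of_pair hF hww'
  refine ⟨a • w + c • w', M.add_mem (M.smul_mem _ hwM) (M.smul_mem _ hwM'), ?_, hac⟩
  rw [herm_add_left, herm_smul_left, herm_smul_left, hwv, hwv', mul_zero, mul_zero, add_zero]

/-- In a nondegenerate subspace of dimension at least four there is a unit vector orthogonal to
a given unit vector and to any given vector. -/
theorem exists_unit_perp_two {M : Submodule F (Fin n → F)} (hM : ND q M) (hk : 4 ≤ finrank F M)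
    {u : Fin n → F} (hu : u ∈ M) (huu : hermForm n F q u u = 1) (v : Fin n → F) :
    ∃ s ∈ M, hermForm n F q s u = 0 ∧ hermForm n F q s v = 0 ∧ hermForm n F q s s = 1 := by
  set M' : Submodule F (Fin n → F) := M ⊓ hermPerp q {u} with hM'
  have hmem : ∀ w, w ∈ M' ↔ w ∈ M ∧ hermForm n F q w u = 0 := by
    intro w
    rw [hM', Submodule.mem_inf, mem_hermPerp]
    simp
  have hdec : ∀ w ∈ M, w - hermForm n F q w u • u ∈ M' := by
    intro w hw
    rw [hmem]
    refine ⟨M.sub_mem hw (M.smul_mem _ hu), ?_⟩
    rw [herm_sub_left, herm_smul_left, huu, mul_one, sub_self]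
  have hnd : ND q M' := by
    intro x hx h
    refine hM x ((hmem x).1 hx).1 fun w hw => ?_
    have h1 := h _ (hdec w hw)
    rw [herm_sub_right hF, herm_smul_right, ((hmem x).1 hx).2, mul_zero, sub_zero] at h1
    exact h1
  have hrank : 3 ≤ finrank F M' := by
    have h1 : M ≤ Submodule.span F {u} ⊔ M' := by
      intro w hw
      rw [Submodule.mem_sup]
      exact ⟨hermForm n F q w u • u, Submodule.smul_mem _ _ (Submodule.mem_span_singleton_self u),
        _, hdec w hw, by abel⟩
    have h2 := Submodule.finrank_mono h1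
    have h3 := Submodule.finrank_add_le_finrank_add_finrank (Submodule.span F {u}) M'
    have h4 := finrank_span_singleton_le u
    omega
  obtain ⟨s, hs, hsv, hss⟩ := exists_unit_perp_vec hF hnd hrank v
  exact ⟨s, ((hmem s).1 hs).1, ((hmem s).1 hs).2, hsv, hss⟩

section Main

variable {H : Subgroup (SU n F q)} {M : Submodule F (Fin n → F)}
  (hfull : ∀ w ∈ M, hermForm n F q w w = 0 → Full hF H w)

include hfull

/-- Transitivity on norm one vectors. -/
theorem conn_unit (hM : ND q M)
    (hcase : 4 ≤ finrank F M ∨ (3 ≤ q ∧ 2 ≤ finrank F M) ∨ finrank F M = 2) {u v : Fin n → F}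
    (hu : u ∈ M) (hv : v ∈ M) (huu : hermForm n F q u u = 1) (hvv : hermForm n F q v v = 1) :
    Conn q H M u v := by
  set b := hermForm n F q u v with hb
  by_cases hN : b * b ^ q = 1
  swap
  · exact conn_of_norm_ne hF hfull hu hv huu hvv hN
  have h2 : 2 ≤ finrank F M := by omega
  obtain ⟨s, hsM, hs, hss⟩ : ∃ s ∈ M, hermForm n F q s v = 0 ∧ hermForm n F q s s = 1 := by
    obtain ⟨s, hs, hsv, hss⟩ := exists_unit_perp hF
      (nd_singleton (v := v) (by rw [hvv]; exact one_ne_zero)) hM
      ((Submodule.span_singleton_le_iff_mem v M).2 hv) (by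
        intro h
        have := finrank_span_singleton_le v
        rw [h] at this
        omega)
    exact ⟨s, hs, hsv v (Submodule.mem_span_singleton_self v), hss⟩
  by_cases hu0 : u - b • v = 0
  · have hub : u = (0 : F) • s + b • v := by rw [zero_smul, zero_add]; exact sub_eq_zero.1 hu0
    rw [hub]
    exact conn_pair hF hfull hsM hv hss hvv hs (by rw [zero_mul, zero_add, hN])
  -- the vector `u - b v` is isotropic and orthogonal to `v`
  have hvu : hermForm n F q v u = b ^ q := herm_swap hF u v
  have h0v : hermForm n F q (u - b • v) v = 0 := by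
    rw [herm_sub_left, herm_smul_left, hvv, ← hb]; ring
  have h00 : hermForm n F q (u - b • v) (u - b • v) = 0 := by
    rw [herm_sub_right hF, herm_smul_right, h0v, herm_sub_left, herm_smul_left, huu, hvu]
    linear_combination -hN
  set u0 : Fin n → F := u - b • v with hu0def
  have hu0M : u0 ∈ M := M.sub_mem hu (M.smul_mem _ hv)
  rcases hcase with h4 | ⟨hq, -⟩ | h2'
  · obtain ⟨s, hs, hsu, hsv, hss⟩ := exists_unit_perp_two hF hM h4 hu huu v
    refine conn_via hF hfull hu hv hs huu hvv hss ?_ ?_
    · rw [herm_eq_zero_swap hF hsu, zero_mul]; exact zero_ne_one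
    · rw [hsv, zero_mul]; exact zero_ne_one
  · obtain ⟨y, hy, hy0⟩ : ∃ y ∈ M, hermForm n F q u0 y ≠ 0 := by
      by_contra hcon
      push Not at hcon
      exact hu0 (hM u0 hu0M hcon)
    -- make `y` orthogonal to `v` and `h(u0, y) = 1`
    obtain ⟨y, hy, hy1, hyv⟩ : ∃ y ∈ M, hermForm n F q u0 y = 1 ∧ hermForm n F q y v = 0 := by
      set y1 := y - hermForm n F q y v • v with hy1
      have hy1M : y1 ∈ M := M.sub_mem hy (M.smul_mem _ hv)
      have hy1v : hermForm n F q y1 v = 0 := by
        rw [hy1, herm_sub_left, herm_smul_left, hvv]; ring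
      have hu0y1 : hermForm n F q u0 y1 = hermForm n F q u0 y := by
        rw [hy1, herm_sub_right hF, herm_smul_right, h0v, mul_zero, sub_zero]
      refine ⟨((hermForm n F q u0 y)⁻¹) ^ q • y1, M.smul_mem _ hy1M, ?_, ?_⟩
      · rw [herm_smul_right, pow_q_pow_q hF, hu0y1, inv_mul_cancel₀ hy0]
      · rw [herm_smul_left, hy1v, mul_zero]
    obtain ⟨z, hz0, hz⟩ := Cfsg.Agent.ClassicalGeometry.UnitGen.exists_norm_ne hF hq
    have hyu : hermForm n F q y u0 = 1 := by rw [herm_swap hF u0, hy1, one_pow]
    have hsol : ∃ t : F, t + t ^ q = 1 - (z * z ^ q) * hermForm n F q y y := by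
      apply exists_trace_eq hF
      rw [sub_pow_q hF, one_pow, mul_pow, norm_pow_q hF, herm_self_pow hF]
    obtain ⟨t, ht⟩ := hsol
    have hzq : z ^ q ≠ 0 := pow_ne_zero _ hz0
    set x : F := t * (z ^ q)⁻¹ with hx
    have hxz : x * z ^ q = t := by rw [hx, mul_assoc, inv_mul_cancel₀ hzq, mul_one]
    have hzx : z * x ^ q = t ^ q := by
      have := congrArg (fun a => a ^ q) hxz
      simp only [mul_pow, pow_q_pow_q hF] at this
      rw [mul_comm]; exact this
    have hwM : x • u0 + z • y ∈ M := M.add_mem (M.smul_mem _ hu0M) (M.smul_mem _ hy)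
    have hww : hermForm n F q (x • u0 + z • y) (x • u0 + z • y) = 1 := by
      rw [herm_add_left, herm_add_right hF, herm_add_right hF]
      simp only [herm_smul_left, herm_smul_right, h00, hy1, hyu]
      linear_combination hxz + hzx + ht
    have hwv : hermForm n F q (x • u0 + z • y) v = 0 := by
      rw [herm_add_left, herm_smul_left, herm_smul_left, h0v, hyv]; ring
    have huw : hermForm n F q u (x • u0 + z • y) = z ^ q := by
      have hu' : u = u0 + b • v := by rw [hu0def, sub_add_cancel]
      have hvw : hermForm n F q v (x • u0 + z • y) = 0 := herm_eq_zero_swap hF hwv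
      rw [hu', herm_add_left, herm_smul_left, hvw, herm_add_right hF, herm_smul_right,
        herm_smul_right, h00, hy1]
      ring
    refine conn_via hF hfull hu hv hwM huu hvv hww ?_ ?_
    · rw [huw, pow_q_pow_q hF, mul_comm]; exact hz
    · rw [hwv, zero_mul]; exact zero_ne_one
  · -- dimension two
    exfalso
    apply hu0
    have hspan : Submodule.span F {s, v} = M := by
      refine Submodule.eq_of_le_of_finrank_le ?_ ?_
      · rw [Submodule.span_le]
        rintro x (rfl | rfl)
        · exact hsM
        · exact hv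
      · rw [h2']
        have hli : LinearIndependent F ![s, v] := by
          rw [LinearIndependent.pair_iff]
          intro a c hac
          have h1 : hermForm n F q (a • s + c • v) v = 0 := by rw [hac, herm_zero_left]
          have h3 : hermForm n F q (a • s + c • v) s = 0 := by rw [hac, herm_zero_left]
          have hvs : hermForm n F q v s = 0 := herm_eq_zero_swap hF hs
          rw [herm_add_left, herm_smul_left, herm_smul_left, hs, hvv] at h1
          rw [herm_add_left, herm_smul_left, herm_smul_left, hss, hvs] at h3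
          constructor
          · linear_combination h3
          · linear_combination h1
        have := finrank_span_eq_card hli
        have hr : Set.range ![s, v] = {s, v} := by
          ext x
          simp [eq_comm, or_comm]
        rw [hr, Fintype.card_fin] at this
        rw [this]
    rw [← hspan] at hu0M
    obtain ⟨a, c, hac⟩ := Submodule.mem_span_pair.1 hu0M
    have h1 : c = 0 := by
      have := h0v
      rw [← hac, herm_add_left, herm_smul_left, herm_smul_left, hs, hvv] at this
      linear_combination this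
    have h3 : a = 0 := by
      have := h00
      rw [← hac, h1, zero_smul, add_zero, herm_smul_left, herm_smul_right, hss, mul_one] at this
      exact (norm_eq_zero hF).1 this
    rw [← hac, h1, h3, zero_smul, zero_smul, add_zero]

/-- Transitivity on vectors of the same nonzero norm. -/
theorem conn_norm (hM : ND q M)
    (hcase : 4 ≤ finrank F M ∨ (3 ≤ q ∧ 2 ≤ finrank F M) ∨ finrank F M = 2) {u v : Fin n → F}
    (hu : u ∈ M) (hv : v ∈ M) (huv : hermForm n F q u u = hermForm n F q v v)
    (hvv : hermForm n F q v v ≠ 0) : Conn q H M u v := by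
  obtain ⟨c, hc0, hc⟩ := exists_norm_eq_ne hF (herm_self_pow hF v) hvv
  have hunit : ∀ x : Fin n → F, hermForm n F q x x = hermForm n F q v v →
      hermForm n F q (c⁻¹ • x) (c⁻¹ • x) = 1 := by
    intro x hx
    have hcq : c ^ q ≠ 0 := pow_ne_zero _ hc0
    rw [herm_smul_left, herm_smul_right, hx, ← hc, inv_pow]
    field_simp
  have h := (conn_unit hF hfull hM hcase (M.smul_mem c⁻¹ hu) (M.smul_mem c⁻¹ hv) (hunit u huv)
    (hunit v rfl)).smul c
  rwa [smul_smul, smul_smul, mul_inv_cancel₀ hc0, one_smul, one_smul] at h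

/-- Two isotropic vectors with `h(u, v) ≠ 0` are connected, in dimension at least three. -/
theorem conn_iso_hyp (hM : ND q M) (h3 : 3 ≤ finrank F M) {u v : Fin n → F}
    (hu : u ∈ M) (hv : v ∈ M) (huu : hermForm n F q u u = 0) (hvv : hermForm n F q v v = 0)
    (huv : hermForm n F q u v ≠ 0) : Conn q H M u v := by
  -- vectors with trace zero product are connected
  have key : ∀ x y : Fin n → F, x ∈ M → y ∈ M → hermForm n F q x x = 0 → hermForm n F q y y = 0 →
      hermForm n F q x y ≠ 0 → hermForm n F q x y + (hermForm n F q x y) ^ q = 0 →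
      Conn q H M x y := by
    intro x y hx hy hxx hyy hxy htr
    refine conn_swap hF hfull hx hy (by rw [hxx, hyy]) (δ := -hermForm n F q x y) ?_
      (neg_ne_zero.2 hxy) ?_
    · rw [neg_pow_q hF]; linear_combination -htr
    · rw [hxx]; ring
  obtain ⟨s, hsM, hs, hss⟩ := exists_unit_perp hF (nd_pair hF huu hvv huv) hM (by
      rw [Submodule.span_le]
      rintro x (rfl | rfl)
      · exact hu
      · exact hv) (by
      intro h
      have := finrank_span_pair_le u v
      rw [h] at this
      omega)
  have hsu : hermForm n F q s u = 0 := hs u (Submodule.subset_span (by simp))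
  have hsv : hermForm n F q s v = 0 := hs v (Submodule.subset_span (by simp))
  have hus : hermForm n F q u s = 0 := herm_eq_zero_swap hF hsu
  have hvs : hermForm n F q v s = 0 := herm_eq_zero_swap hF hsv
  set e := hermForm n F q u v with he
  have hvu : hermForm n F q v u = e ^ q := herm_swap hF u v
  have heq0 : e ^ q ≠ 0 := pow_ne_zero _ huv
  obtain ⟨θ, hθ0, hθ⟩ := exists_trace_zero_ne hF
  have hθq : θ ^ q = -θ := by linear_combination hθ
  -- `z = α u + β v + γ s`
  set α : F := θ / e with hα
  set β : F := -(θ / e ^ q) with hβ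
  have hαq : α ^ q = -(θ / e ^ q) := by rw [hα, div_pow, hθq]; ring
  have hβq : β ^ q = θ / e := by
    rw [hβ, neg_pow_q hF, div_pow, hθq, pow_q_pow_q hF]; ring
  obtain ⟨γ, hγ⟩ : ∃ γ : F, γ * γ ^ q = -(α * β ^ q * e + β * α ^ q * e ^ q) := by
    apply exists_norm_eq hF
    rw [neg_pow_q hF, add_pow_q hF, mul_pow, mul_pow, mul_pow, mul_pow, pow_q_pow_q hF,
      pow_q_pow_q hF, pow_q_pow_q hF]
    ring
  have hzM : α • u + β • v + γ • s ∈ M :=
    M.add_mem (M.add_mem (M.smul_mem _ hu) (M.smul_mem _ hv)) (M.smul_mem _ hsM)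
  have hzz : hermForm n F q (α • u + β • v + γ • s) (α • u + β • v + γ • s) = 0 := by
    simp only [herm_add_left, herm_add_right hF, herm_smul_left, herm_smul_right, huu, hvv, hsu,
      hsv, hus, hvs, hss, ← he, hvu]
    linear_combination hγ
  have huz : hermForm n F q u (α • u + β • v + γ • s) = θ := by
    simp only [herm_add_right hF, herm_smul_right, huu, hus, ← he, hβq]
    field_simp
    ring
  have hzv : hermForm n F q (α • u + β • v + γ • s) v = θ := by
    simp only [herm_add_left, herm_smul_left, hvv, hsv, ← he, hα]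
    field_simp
    ring
  refine (key u _ hu hzM huu hzz ?_ ?_).trans (key _ v hzM hv hzz hvv ?_ ?_)
  · rw [huz]; exact hθ0
  · rw [huz]; exact hθ
  · rw [hzv]; exact hθ0
  · rw [hzv]; exact hθ

/-- Transitivity on nonzero isotropic vectors, in dimension at least three. -/
theorem conn_iso (hM : ND q M) (h3 : 3 ≤ finrank F M) {u v : Fin n → F}
    (hu : u ∈ M) (hv : v ∈ M) (hu0 : u ≠ 0) (hv0 : v ≠ 0) (huu : hermForm n F q u u = 0)
    (hvv : hermForm n F q v v = 0) : Conn q H M u v := by
  by_cases huv : hermForm n F q u v = 0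
  swap
  · exact conn_iso_hyp hF hfull hM h3 hu hv huu hvv huv
  have hex : ∀ x ∈ M, x ≠ 0 → ∃ y ∈ M, hermForm n F q x y ≠ 0 := by
    intro x hx hx0
    by_contra hcon
    push Not at hcon
    exact hx0 (hM x hx hcon)
  obtain ⟨y, hy, hyu, hyv⟩ : ∃ y ∈ M, hermForm n F q u y ≠ 0 ∧ hermForm n F q v y ≠ 0 := by
    obtain ⟨y1, hy1, h1⟩ := hex u hu hu0
    obtain ⟨y2, hy2, h2⟩ := hex v hv hv0
    by_cases h12 : hermForm n F q v y1 = 0
    · by_cases h21 : hermForm n F q u y2 = 0
      · refine ⟨y1 + y2, M.add_mem hy1 hy2, ?_, ?_⟩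
        · rw [herm_add_right hF, h21, add_zero]; exact h1
        · rw [herm_add_right hF, h12, zero_add]; exact h2
      · exact ⟨y2, hy2, h21, h2⟩
    · exact ⟨y1, hy1, h1, h12⟩
  -- `z = y + α u` isotropic
  obtain ⟨t, ht⟩ : ∃ t : F, t + t ^ q = -hermForm n F q y y := by
    apply exists_trace_eq hF
    rw [neg_pow_q hF, herm_self_pow hF]
  set z : Fin n → F := y + (t / hermForm n F q u y) • u with hz
  have hyu' : hermForm n F q y u = (hermForm n F q u y) ^ q := herm_swap hF u y
  have hyuq : (hermForm n F q u y) ^ q ≠ 0 := pow_ne_zero _ hyu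
  have hzM : z ∈ M := M.add_mem hy (M.smul_mem _ hu)
  have hzz : hermForm n F q z z = 0 := by
    rw [hz]
    simp only [herm_add_left, herm_add_right hF, herm_smul_left, herm_smul_right, huu, hyu',
      div_pow]
    have e1 : t / hermForm n F q u y * hermForm n F q u y = t := div_mul_cancel₀ _ hyu
    have e2 : t ^ q / (hermForm n F q u y) ^ q * (hermForm n F q u y) ^ q = t ^ q :=
      div_mul_cancel₀ _ hyuq
    linear_combination e1 + e2 + ht
  have huz : hermForm n F q u z ≠ 0 := by
    rw [hz, herm_add_right hF, herm_smul_right, huu, mul_zero, add_zero]; exact hyu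
  have hzv : hermForm n F q z v ≠ 0 := by
    rw [hz, herm_add_left, herm_smul_left, huv, mul_zero, add_zero]
    exact fun h => hyv (herm_eq_zero_swap hF h)
  exact (conn_iso_hyp hF hfull hM h3 hu hzM huu hzz huz).trans
    (conn_iso_hyp hF hfull hM h3 hzM hv hzz hvv hzv)

end Main

end Cfsg.Agent.H108.FullTr
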