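import Cfsg.Agent.H108.Gen

/-!
# `SU_n(q)`, `n ≥ 5`, `q ≥ 3`: three conjugate regular unipotent generators (helper108)
-/

set_option autoImplicit false

namespace Cfsg.Agent.H108.Gen

open Cfsg Module Matrix Cfsg.Agent.LieClassical.HermBasic Cfsg.Agent.ClassicalGeometry.UnitTransv
open Cfsg.Agent.H186 Cfsg.Agent.ClassicalGeometry.HermOrtho Cfsg.Agent.H108.Model
open Cfsg.Agent.H108.FullTr Cfsg.Agent.H108.FieldEl

variable {F : Type*} [Field F] [Fintype F] {n q : ℕ}

/-- Conjugation of an element of `SU_n(q)` by an isometry. -/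
theorem exists_isometry_conj (hF : Fintype.card F = q ^ 2) {M : Matrix (Fin n) (Fin n) F}
    (hM : ∀ x y, hermForm n F q (M *ᵥ x) (M *ᵥ y) = hermForm n F q x y) (u : SU n F q)
    (hu : IsReg (mat u)) :
    ∃ u' : SU n F q, (∀ x, act u' (M *ᵥ x) = M *ᵥ act u x) ∧ IsReg (mat u') := by
  have hdet := det_isometry hF hM
  have hd : M.det ≠ 0 := by
    intro h
    rw [h, zero_mul] at hdet
    exact zero_ne_one hdet
  have hunit : IsUnit M.det := IsUnit.mk0 _ hd
  have h1 : M * M⁻¹ = 1 := Matrix.mul_nonsing_inv M hunit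
  have h2 : M⁻¹ * M = 1 := Matrix.nonsing_inv_mul M hunit
  have hinv : ∀ x y, hermForm n F q (M⁻¹ *ᵥ x) (M⁻¹ *ᵥ y) = hermForm n F q x y := by
    intro x y
    rw [← hM, Matrix.mulVec_mulVec, Matrix.mulVec_mulVec, h1, Matrix.one_mulVec,
      Matrix.one_mulVec]
  have hact : ∀ x, (M * mat u * M⁻¹) *ᵥ x = M *ᵥ (act u (M⁻¹ *ᵥ x)) := by
    intro x
    rw [← Matrix.mulVec_mulVec, ← Matrix.mulVec_mulVec]
    rfl
  have hiso : ∀ x y, hermForm n F q ((M * mat u * M⁻¹) *ᵥ x) ((M * mat u * M⁻¹) *ᵥ y) =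
      hermForm n F q x y := by
    intro x y
    rw [hact, hact, hM, herm_act, hinv]
  have hdu : (mat u).det = 1 := hu.det
  have hd1 : (M * mat u * M⁻¹).det = 1 := by
    rw [Matrix.det_mul, Matrix.det_mul, hdu, mul_one, ← Matrix.det_mul, h1, Matrix.det_one]
  refine ⟨mk (M * mat u * M⁻¹) hd1 hiso, ?_, ?_⟩
  · intro x
    rw [act_mk, hact, Matrix.mulVec_mulVec, h2, Matrix.one_mulVec]
  · have h3 := hu.conj (Matrix.GeneralLinearGroup.mkOfDetNeZero M hd)
    have h4 : mat (mk (M * mat u * M⁻¹) hd1 hiso) = M * mat u * M⁻¹ := coe_mk _ hd1 hiso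
    rw [h4]
    have h5 : (((Matrix.GeneralLinearGroup.mkOfDetNeZero M hd)⁻¹ : GL (Fin n) F) :
        Matrix (Fin n) (Fin n) F) = M⁻¹ := by
      rw [Matrix.coe_units_inv]
      rfl
    rw [h5] at h3
    exact h3

/-- A unit vector orthogonal to a nondegenerate family. -/
theorem exists_unit_perp_family (hF : Fintype.card F = q ^ 2) {k : ℕ} (hk : k < n)
    (a : Fin k → Fin n → F)
    (hnd : ∀ x : Fin k → F, (∀ j, ∑ i, x i * hermForm n F q (a i) (a j) = 0) → x = 0) :
    ∃ w : Fin n → F, (∀ x ∈ Submodule.span F (Set.range a), hermForm n F q x w = 0) ∧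
      hermForm n F q w w = 1 := by
  have hND : ∀ u ∈ Submodule.span F (Set.range a), (∀ v ∈ Submodule.span F (Set.range a),
      hermForm n F q u v = 0) → u = 0 := by
    intro u hu h
    obtain ⟨x, rfl⟩ := (Submodule.mem_span_range_iff_exists_fun F).1 hu
    have : x = 0 := hnd x fun j => by
      have h1 := h _ (Submodule.subset_span ⟨j, rfl⟩)
      rw [herm_sum_left] at h1
      rw [← h1]
      exact Finset.sum_congr rfl fun i _ => (herm_smul_left _ _ _).symm
    rw [this]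
    simp
  have h1 := finrank_hermPerp_of_nondeg hF _ hND
  have h2 : finrank F (Submodule.span F (Set.range a)) ≤ k := by
    have := finrank_range_le_card (R := F) a
    rwa [Fintype.card_fin] at this
  obtain ⟨d, hd1, hd2⟩ := exists_orthonormal hF
    (hermPerp q (Submodule.span F (Set.range a) : Set (Fin n → F))) (hermPerp_nondeg hF _ hND) rfl
  have h3 : 0 < finrank F (hermPerp q (Submodule.span F (Set.range a) : Set (Fin n → F))) := by
    omega
  refine ⟨d ⟨0, h3⟩, fun x hx => herm_eq_zero_swap hF (hd1 _ _ hx), ?_⟩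
  rw [hd2, if_pos rfl]

omit [Fintype F] in
/-- sequences with prescribed first five values. -/
theorem exists_tau5 (hn : 5 ≤ n) {t0 t1 t2 t3 t4 : F} (h0 : t0 ^ q = t0) (h1 : t1 ^ q = t1)
    (h2 : t2 ^ q = t2) (h3 : t3 ^ q = t3) (h4 : t4 ^ q = t4) (h40 : t4 ≠ 0) (hq : q ≠ 0) :
    ∃ τ : ℕ → F, τ 0 = t0 ∧ τ 1 = t1 ∧ τ 2 = t2 ∧ τ 3 = t3 ∧ τ 4 = t4 ∧ (∀ k, τ k ^ q = τ k) ∧
      (∀ k, n ≤ k → τ k = 0) ∧ τ (n - 1) ≠ 0 := by
  refine ⟨fun k => if k = 0 then t0 else if k = 1 then t1 else if k = 2 then t2 else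
    if k = 3 then t3 else if k = 4 then t4 else if k = n - 1 then 1 else 0,
    by simp, by simp, by simp, by simp, by simp, ?_, ?_, ?_⟩
  · intro k
    dsimp only
    split_ifs
    · exact h0
    · exact h1
    · exact h2
    · exact h3
    · exact h4
    · exact one_pow q
    · exact zero_pow hq
  · intro k hk
    dsimp only
    rw [if_neg (by omega), if_neg (by omega), if_neg (by omega), if_neg (by omega),
      if_neg (by omega), if_neg (by omega)]
  · dsimp only
    rw [if_neg (by omega), if_neg (by omega), if_neg (by omega), if_neg (by omega), if_pos rfl]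
    split_ifs with h
    · exact h40
    · exact one_ne_zero

omit [Fintype F] in
/-- sequences with prescribed first three values. -/
theorem exists_tau3 (hn : 5 ≤ n) {t0 t1 t2 : F} (h0 : t0 ^ q = t0) (h1 : t1 ^ q = t1)
    (h2 : t2 ^ q = t2) (hq : q ≠ 0) :
    ∃ τ : ℕ → F, τ 0 = t0 ∧ τ 1 = t1 ∧ τ 2 = t2 ∧ τ (n - 1) = 1 ∧ (∀ k, τ k ^ q = τ k) ∧
      (∀ k, n ≤ k → τ k = 0) := by
  refine ⟨fun k => if k = 0 then t0 else if k = 1 then t1 else if k = 2 then t2 else
    if k = n - 1 then 1 else 0, by simp, by simp, by simp, ?_, ?_, ?_⟩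
  · dsimp only
    rw [if_neg (by omega), if_neg (by omega), if_neg (by omega), if_pos rfl]
  · intro k
    dsimp only
    split_ifs
    · exact h0
    · exact h1
    · exact h2
    · exact one_pow q
    · exact zero_pow hq
  · intro k hk
    dsimp only
    rw [if_neg (by omega), if_neg (by omega), if_neg (by omega), if_neg (by omega)]

omit [Fintype F] in
/-- The last basis vector of a model is fixed. -/
theorem model_fix {τ : ℕ → F} (h0 : ∀ k : ℕ, n ≤ k → τ k = 0) (hn : 1 ≤ n) {θ : F}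
    {E : ℕ → Fin n → F} {v : SU n F q}
    (hE : ∀ i j : ℕ, hermForm n F q (E i) (E j) = τ (i + j))
    (hsep : ∀ x : Fin n → F, (∀ i : ℕ, hermForm n F q (E i) x = 0) → x = 0)
    (hv : ∀ k : ℕ, act v (E k + θ ^ q • E (k + 1)) = E k + θ • E (k + 1)) :
    act v (E (n - 1)) = E (n - 1) := by
  have hEn : E n = 0 := hsep _ fun i => by rw [hE]; exact h0 _ (by omega)
  have h1 := hv (n - 1)
  rw [Nat.sub_add_cancel hn, hEn, smul_zero, add_zero, smul_zero, add_zero] at h1
  exact h1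

/-- The Hermitian form on combinations of three vectors. -/
theorem herm_comb3 (hF : Fintype.card F = q ^ 2) (a0 a1 a2 b0 b1 b2 : F) (x0 x1 x2 : Fin n → F) :
    hermForm n F q (a0 • x0 + a1 • x1 + a2 • x2) (b0 • x0 + b1 • x1 + b2 • x2) =
      a0 * (b0 ^ q * hermForm n F q x0 x0 + b1 ^ q * hermForm n F q x0 x1 +
        b2 ^ q * hermForm n F q x0 x2) +
      a1 * (b0 ^ q * hermForm n F q x1 x0 + b1 ^ q * hermForm n F q x1 x1 +
        b2 ^ q * hermForm n F q x1 x2) +
      a2 * (b0 ^ q * hermForm n F q x2 x0 + b1 ^ q * hermForm n F q x2 x1 +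
        b2 ^ q * hermForm n F q x2 x2) := by
  simp only [herm_add_left, herm_add_right hF, herm_smul_left, herm_smul_right]
  ring

theorem two_pow_q (hF : Fintype.card F = q ^ 2) : (2 : F) ^ q = 2 := by
  have : (2 : F) = 1 + 1 := by norm_num
  rw [this, add_pow_q hF, one_pow]

theorem natCast_pow_q (hF : Fintype.card F = q ^ 2) (k : ℕ) : ((k : ℕ) : F) ^ q = (k : F) := by
  induction k with
  | zero => rw [Nat.cast_zero, zero_pow_q hF]
  | succ k ih => rw [Nat.cast_succ, add_pow_q hF, ih, one_pow]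

theorem ofNat_pow_q (hF : Fintype.card F = q ^ 2) (k : ℕ) [k.AtLeastTwo] :
    (OfNat.ofNat k : F) ^ q = OfNat.ofNat k := natCast_pow_q hF k

end Cfsg.Agent.H108.Gen
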