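import Cfsg.Agent.H108.Five

/-!
# `SU_n(q)`, `n ≥ 5`, `q ≥ 3`: three conjugate regular unipotent generators (helper108)
-/

set_option autoImplicit false
set_option linter.unusedSimpArgs false

namespace Cfsg.Agent.H108.Gen

open Cfsg Module Matrix Cfsg.Agent.LieClassical.HermBasic Cfsg.Agent.ClassicalGeometry.UnitTransv
open Cfsg.Agent.H186 Cfsg.Agent.ClassicalGeometry.HermOrtho Cfsg.Agent.H108.Model
open Cfsg.Agent.H108.FullTr Cfsg.Agent.H108.FieldEl

variable {F : Type*} [Field F] [Fintype F] {n q : ℕ}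

/-- The first model: a regular unipotent `v` and a vector `f` with prescribed products. -/
theorem exists_first (hF : Fintype.card F = q ^ 2) (hn : 5 ≤ n) {γ : F} (hγ : γ + γ ^ q ≠ 8) :
    ∃ (v : SU n F q) (f e : Fin n → F), IsReg (mat v) ∧ act v e = e ∧ hermForm n F q f e ≠ 0 ∧
      hermForm n F q f f = 0 ∧ hermForm n F q (act v f) f = 1 ∧
      hermForm n F q (act v (act v f)) f = γ := by
  obtain ⟨θ, hθ⟩ := exists_not_fixed hF
  set θ' := θ ^ q with hθ'
  have hθθ : θ' ^ q = θ := pow_q_pow_q hF θ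
  have hδ : θ - θ' ≠ 0 := sub_ne_zero.2 (Ne.symm hθ)
  set γ' := γ ^ q with hγ'
  have hγγ : γ' ^ q = γ := pow_q_pow_q hF γ
  have q2 : (2 : F) ^ q = 2 := ofNat_pow_q hF 2
  have q3 : (3 : F) ^ q = 3 := ofNat_pow_q hF 3
  have q4 : (4 : F) ^ q = 4 := ofNat_pow_q hF 4
  have q8 : (8 : F) ^ q = 8 := ofNat_pow_q hF 8
  have hδ' : (θ' - θ) ^ 4 = (θ - θ') ^ 4 := by ring
  have comm : ∀ (x : F) (k : ℕ), (x ^ k) ^ q = (x ^ q) ^ k := fun x k => by
    rw [← pow_mul, ← pow_mul, mul_comm]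
  have hδ4 : ((θ - θ') ^ 4) ^ q = (θ - θ') ^ 4 := by
    rw [comm, sub_pow_q hF, ← hθ', hθθ, hδ']
  obtain ⟨τ, e0, e1, e2, e3, e4, hτ, hτ0, hτn⟩ := exists_tau5 (F := F) (q := q) hn
    (t0 := (θ ^ 4 * γ' + θ' ^ 4 * γ - 4 * θ ^ 3 * θ' - 4 * θ * θ' ^ 3) / (θ - θ') ^ 4)
    (t1 := (-(θ' ^ 3 * γ) + 3 * θ * θ' ^ 2 + θ' ^ 3 + θ ^ 3 + 3 * θ ^ 2 * θ' - θ ^ 3 * γ') /
      (θ - θ') ^ 4)
    (t2 := (θ' ^ 2 * γ + θ ^ 2 * γ' - 2 * (θ + θ') ^ 2) / (θ - θ') ^ 4)
    (t3 := (4 * θ + 4 * θ' - θ * γ' - θ' * γ) / (θ - θ') ^ 4)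
    (t4 := (γ + γ' - 8) / (θ - θ') ^ 4)
    (by
      rw [div_pow, hδ4]
      congr 1
      simp only [sub_pow_q hF, add_pow_q hF, mul_pow, comm, ← hθ', hθθ, ← hγ', hγγ, q4]
      ring)
    (by
      rw [div_pow, hδ4]
      congr 1
      simp only [sub_pow_q hF, add_pow_q hF, neg_pow_q hF, mul_pow, comm, ← hθ', hθθ, ← hγ', hγγ,
        q3]
      ring)
    (by
      rw [div_pow, hδ4]
      congr 1
      simp only [sub_pow_q hF, add_pow_q hF, neg_pow_q hF, mul_pow, comm, ← hθ', hθθ, ← hγ', hγγ,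
        q2]
      ring)
    (by
      rw [div_pow, hδ4]
      congr 1
      simp only [sub_pow_q hF, add_pow_q hF, neg_pow_q hF, mul_pow, comm, ← hθ', hθθ, ← hγ', hγγ,
        q4]
      ring)
    (by
      rw [div_pow, hδ4]
      congr 1
      simp only [sub_pow_q hF, add_pow_q hF, neg_pow_q hF, mul_pow, comm, ← hθ', hθθ, ← hγ', hγγ,
        q8]
      ring)
    (div_ne_zero (sub_ne_zero.2 hγ) (pow_ne_zero _ hδ)) (q_pos hF).ne'
  obtain ⟨E, v, hE, hsep, hv, hreg⟩ := exists_model hF (by omega) τ hτ hτ0 hτn hθ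
  have hvE : ∀ k, act v (E k + θ' • E (k + 1)) = E k + θ • E (k + 1) := hv
  set f : Fin n → F := (1 : F) • E 0 + (2 * θ') • E 1 + (θ' ^ 2) • E 2 with hf
  have hvf : act v f = (1 : F) • E 0 + (θ + θ') • E 1 + (θ * θ') • E 2 := by
    have h1 : f = (E 0 + θ' • E (0 + 1)) + θ' • (E 1 + θ' • E (1 + 1)) := by
      rw [hf]; module
    rw [h1, act_add, act_smul, hvE, hvE]
    module
  have hvvf : act v (act v f) = (1 : F) • E 0 + (2 * θ) • E 1 + (θ ^ 2) • E 2 := by
    have h1 : act v f = (E 0 + θ' • E (0 + 1)) + θ • (E 1 + θ' • E (1 + 1)) := by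
      rw [hvf]; module
    rw [h1, act_add, act_smul, hvE, hvE]
    module
  refine ⟨v, f, E (n - 1), hreg, model_fix hτ0 (by omega) hE hsep hv, ?_, ?_, ?_, ?_⟩
  · rw [hf, herm_add_left, herm_add_left, herm_smul_left, herm_smul_left, herm_smul_left, hE, hE,
      hE, hτ0 (1 + (n - 1)) (by omega), hτ0 (2 + (n - 1)) (by omega), mul_zero, mul_zero, add_zero,
      add_zero, one_mul, zero_add]
    exact hτn
  · rw [hf, herm_comb3 hF]
    simp only [hE, e0, e1, e2, e3, e4, mul_pow, one_pow, comm, hθθ, q2, Nat.reduceAdd]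
    field_simp
    ring
  · rw [hvf, hf, herm_comb3 hF]
    simp only [hE, e0, e1, e2, e3, e4, mul_pow, one_pow, comm, hθθ, q2, Nat.reduceAdd]
    field_simp
    ring
  · rw [hvvf, hf, herm_comb3 hF]
    simp only [hE, e0, e1, e2, e3, e4, mul_pow, one_pow, comm, hθθ, q2, Nat.reduceAdd]
    field_simp
    ring

/-- The second model: a regular unipotent `u` fixing `e`, and `x`, with prescribed products. -/
theorem exists_second (hF : Fintype.card F = q ^ 2) (hn : 5 ≤ n) (C : F) :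
    ∃ (u : SU n F q) (x e : Fin n → F), IsReg (mat u) ∧ act u e = e ∧ hermForm n F q e e = 0 ∧
      hermForm n F q x e = 1 ∧ hermForm n F q x x = 0 ∧ hermForm n F q (act u x) x = C := by
  obtain ⟨θ, hθ⟩ := exists_not_fixed hF
  set θ' := θ ^ q with hθ'
  have hθθ : θ' ^ q = θ := pow_q_pow_q hF θ
  have hδ : θ - θ' ≠ 0 := sub_ne_zero.2 (Ne.symm hθ)
  set C' := C ^ q with hC'
  have hCC : C' ^ q = C := pow_q_pow_q hF C
  have hδ' : (θ' - θ) ^ 2 = (θ - θ') ^ 2 := by ring
  have comm : ∀ (x : F) (k : ℕ), (x ^ k) ^ q = (x ^ q) ^ k := fun x k => by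
    rw [← pow_mul, ← pow_mul, mul_comm]
  have hδ4 : ((θ - θ') ^ 2) ^ q = (θ - θ') ^ 2 := by
    rw [comm, sub_pow_q hF, ← hθ', hθθ, hδ']
  obtain ⟨τ, e0, e1, e2, en, hτ, hτ0⟩ := exists_tau3 (F := F) (q := q) hn
    (t0 := (θ ^ 2 * C' + θ' ^ 2 * C) / (θ - θ') ^ 2)
    (t1 := (-(θ' * C + θ * C')) / (θ - θ') ^ 2)
    (t2 := (C + C') / (θ - θ') ^ 2)
    (by
      rw [div_pow, hδ4]
      congr 1
      simp only [sub_pow_q hF, add_pow_q hF, mul_pow, comm, ← hθ', hθθ, ← hC', hCC]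
      ring)
    (by
      rw [div_pow, hδ4]
      congr 1
      simp only [sub_pow_q hF, add_pow_q hF, neg_pow_q hF, mul_pow, comm, ← hθ', hθθ, ← hC', hCC]
      ring)
    (by
      rw [div_pow, hδ4]
      congr 1
      simp only [sub_pow_q hF, add_pow_q hF, neg_pow_q hF, mul_pow, comm, ← hθ', hθθ, ← hC', hCC]
      ring) (q_pos hF).ne'
  have hτn : τ (n - 1) ≠ 0 := by rw [en]; exact one_ne_zero
  obtain ⟨E, v, hE, hsep, hv, hreg⟩ := exists_model hF (by omega) τ hτ hτ0 hτn hθ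
  have hvE : ∀ k, act v (E k + θ' • E (k + 1)) = E k + θ • E (k + 1) := hv
  have hux : act v (E 0 + θ' • E 1) = E 0 + θ • E 1 := hvE 0
  refine ⟨v, E 0 + θ' • E 1, E (n - 1), hreg, model_fix hτ0 (by omega) hE hsep hv, ?_, ?_, ?_, ?_⟩
  · rw [hE]; exact hτ0 _ (by omega)
  · rw [herm_add_left, herm_smul_left, hE, hE, hτ0 (1 + (n - 1)) (by omega), mul_zero, add_zero,
      zero_add]
    exact en
  · simp only [herm_add_left, herm_add_right hF, herm_smul_left, herm_smul_right, hE, e0, e1, e2,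
      hθθ, Nat.reduceAdd]
    field_simp
    ring
  · rw [hux]
    simp only [herm_add_left, herm_add_right hF, herm_smul_left, herm_smul_right, hE, e0, e1, e2,
      hθθ, Nat.reduceAdd]
    field_simp
    ring

/-- From one full vector to the whole group. -/
theorem top_of_full_vec (hF : Fintype.card F = q ^ 2) (hn : 3 ≤ n) (hq : 3 ≤ q)
    {H : Subgroup (SU n F q)} {v : SU n F q} (hvH : v ∈ H) (hv : IsReg (mat v))
    {f e : Fin n → F} (he : act v e = e) (hfe : hermForm n F q f e ≠ 0) (hfull : Full hF H f)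
    (h1 : hermForm n F q (act v f) f ≠ 0)
    (hT : hermForm n F q f (act v f) * hermForm n F q f (act v f) *
      hermForm n F q (act v (act v f)) f + (hermForm n F q f (act v f) *
      hermForm n F q f (act v f) * hermForm n F q (act v (act v f)) f) ^ q ≠ 0) : H = ⊤ := by
  have h1' : hermForm n F q f (act v f) ≠ 0 := fun h => h1 (herm_eq_zero_swap hF h)
  have hw : ∀ i : ℕ, Full hF H (act (v ^ i) f) := fun i => hfull.map hF (pow_mem hvH i)
  have hvv : act v (act v f) = act (v ^ 2) f := by rw [pow_two, act_mul]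
  have hv1 : act v f = act (v ^ 1) f := by rw [pow_one]
  obtain ⟨M, hM, h3, hfM, hf0, -, -, -⟩ := exists_base (f0 := f) (f1 := act v f)
    (f2 := act v (act v f)) hF hfull
    (by rw [hv1]; exact hw 1) (by rw [hvv]; exact hw 2) h1' (by rw [herm_act]; exact hT)
  apply eq_top_of_full hF (by omega)
  refine full_of_base hF (w := fun i => act (v ^ i) f) hw ?_ ?_ n M (by omega) hM h3
    (Or.inl hq) hfM ?_
  · intro x hx
    exact sep_of_reg hF (by omega) hv he hfe hx
  · intro i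
    rw [pow_succ, act_mul, herm_act]
    exact h1'
  · rw [pow_zero, act_one]
    exact hf0

/-- `SU_n(q)`, `n ≥ 5`, `q ≥ 3`, is generated by three conjugate regular unipotent elements. -/
theorem main_ge_three (hF : Fintype.card F = q ^ 2) (hn : 5 ≤ n) (hq : 3 ≤ q) :
    ∃ v g h : SU n F q, IsReg (mat v) ∧
      Subgroup.closure ({v, g * v * g⁻¹, h * v * h⁻¹} : Set (SU n F q)) = ⊤ := by
  obtain ⟨ν, hν, hν0, hgen⟩ := exists_gen hF
  obtain ⟨γ, hγν, hγ0, hγ8⟩ := exists_gamma hF hν hν0 hgen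
  have hγ : γ ≠ 0 := by
    rintro rfl
    rw [zero_mul] at hγν
    exact hν0 hγν.symm
  have hγ' : γ ^ q ≠ 0 := pow_ne_zero _ hγ
  obtain ⟨v, f, e, hreg, hve, hfe, hff, h1, h2⟩ := exists_first hF hn hγ8
  obtain ⟨u1, x, e1, hreg1, hue, hee, hxe, hxx, hux⟩ := exists_second hF hn (γ⁻¹)
  have h1' : hermForm n F q f (act v f) = 1 := by rw [herm_swap hF, h1, one_pow]
  have h2' : hermForm n F q f (act v (act v f)) = γ ^ q := by rw [herm_swap hF, h2]
  have hex : hermForm n F q e1 x = 1 := by rw [herm_swap hF, hxe, one_pow]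
  have heux : hermForm n F q e1 (act u1 x) = 1 := by
    have := herm_act u1 e1 x
    rwa [hue, hex] at this
  have huxe : hermForm n F q (act u1 x) e1 = 1 := by rw [herm_swap hF, heux, one_pow]
  have hxux : hermForm n F q x (act u1 x) = (γ⁻¹) ^ q := by rw [herm_swap hF, hux]
  have huxux : hermForm n F q (act u1 x) (act u1 x) = 0 := by rw [herm_act, hxx]
  set a : Fin 3 → Fin n → F := ![e1, x, act u1 x] with ha
  set b : Fin 3 → Fin n → F := ![f, act v f, γ⁻¹ • act v (act v f)] with hb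
  have hab : ∀ i j, hermForm n F q (a i) (a j) = hermForm n F q (b i) (b j) := by
    intro i j
    fin_cases i <;> fin_cases j
    · change hermForm n F q e1 e1 = hermForm n F q f f
      rw [hee, hff]
    · change hermForm n F q e1 x = hermForm n F q f (act v f)
      rw [hex, h1']
    · change hermForm n F q e1 (act u1 x) = hermForm n F q f (γ⁻¹ • act v (act v f))
      rw [heux, herm_smul_right, h2', ← mul_pow, inv_mul_cancel₀ hγ, one_pow]
    · change hermForm n F q x e1 = hermForm n F q (act v f) f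
      rw [hxe, h1]
    · change hermForm n F q x x = hermForm n F q (act v f) (act v f)
      rw [hxx, herm_act, hff]
    · change hermForm n F q x (act u1 x) = hermForm n F q (act v f) (γ⁻¹ • act v (act v f))
      rw [hxux, herm_smul_right, herm_act, h1', mul_one]
    · change hermForm n F q (act u1 x) e1 = hermForm n F q (γ⁻¹ • act v (act v f)) f
      rw [huxe, herm_smul_left, h2, inv_mul_cancel₀ hγ]
    · change hermForm n F q (act u1 x) x = hermForm n F q (γ⁻¹ • act v (act v f)) (act v f)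
      rw [hux, herm_smul_left, herm_act, h1, mul_one]
    · change hermForm n F q (act u1 x) (act u1 x) =
        hermForm n F q (γ⁻¹ • act v (act v f)) (γ⁻¹ • act v (act v f))
      rw [huxux, herm_smul_left, herm_smul_right, herm_act, herm_act, hff, mul_zero, mul_zero]
  have hnd : ∀ y : Fin 3 → F, (∀ j, ∑ i, y i * hermForm n F q (a i) (a j) = 0) → y = 0 := by
    intro y hy
    have g0 := hy 0
    have g1 := hy 1
    have g2 := hy 2
    rw [Fin.sum_univ_three] at g0 g1 g2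
    change y 0 * hermForm n F q e1 e1 + y 1 * hermForm n F q x e1 +
      y 2 * hermForm n F q (act u1 x) e1 = 0 at g0
    change y 0 * hermForm n F q e1 x + y 1 * hermForm n F q x x +
      y 2 * hermForm n F q (act u1 x) x = 0 at g1
    change y 0 * hermForm n F q e1 (act u1 x) + y 1 * hermForm n F q x (act u1 x) +
      y 2 * hermForm n F q (act u1 x) (act u1 x) = 0 at g2
    rw [hee, hxe, huxe] at g0
    rw [hex, hxx, hux] at g1
    rw [heux, hxux, huxux] at g2
    have hy2 : y 2 * (γ⁻¹ + (γ⁻¹) ^ q) = 0 := by linear_combination g1 - g2 + (γ⁻¹) ^ q * g0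
    have hC : γ⁻¹ + (γ⁻¹) ^ q ≠ 0 := by
      rw [inv_pow]
      intro h
      apply hγ0
      field_simp at h
      linear_combination h
    have hy2' : y 2 = 0 := (mul_eq_zero.1 hy2).resolve_right hC
    have hy1 : y 1 = 0 := by linear_combination g0 - hy2'
    have hy0 : y 0 = 0 := by linear_combination g1 - γ⁻¹ * hy2'
    ext i
    fin_cases i
    · exact hy0
    · exact hy1
    · exact hy2'
  obtain ⟨M, hM, hMab⟩ := exists_isometry hF a b hab hnd
  have hM0 : M *ᵥ e1 = f := hMab 0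
  have hM1 : M *ᵥ x = act v f := hMab 1
  have hM2 : M *ᵥ (act u1 x) = γ⁻¹ • act v (act v f) := hMab 2
  obtain ⟨u2, hu2, hreg2⟩ := exists_isometry_conj hF hM u1 hreg1
  have hu2f : act u2 f = f := by rw [← hM0, hu2, hue]
  have hu2v : act u2 (act v f) = γ⁻¹ • act v (act v f) := by rw [← hM1, hu2, hM2, hM1]
  have hndb : ∀ y : Fin 3 → F, (∀ j, ∑ i, y i * hermForm n F q (b i) (b j) = 0) → y = 0 := by
    intro y hy
    exact hnd y fun j => by simp only [hab]; exact hy j
  obtain ⟨w, hwW, hww⟩ := exists_unit_perp_family hF (k := 3) (by omega) b hndb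
  obtain ⟨g, hg⟩ := exists_conj_restrict hF (by omega) hreg hreg2
    (Submodule.span F (Set.range b)) hwW hww
  have hfW : f ∈ Submodule.span F (Set.range b) := Submodule.subset_span ⟨0, rfl⟩
  have hvfW : act v f ∈ Submodule.span F (Set.range b) := Submodule.subset_span ⟨1, rfl⟩
  have hvvW : γ⁻¹ • act v (act v f) ∈ Submodule.span F (Set.range b) :=
    Submodule.subset_span ⟨2, rfl⟩
  have hgf : act (g * v * g⁻¹) f = f := by
    rw [hg f hfW (by rw [hu2f]; exact hfW), hu2f]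
  have hgv : act (g * v * g⁻¹) (act v f) = γ⁻¹ • act v (act v f) := by
    rw [hg _ hvfW (by rw [hu2v]; exact hvvW), hu2v]
  obtain ⟨hff', c, hc, h, hc0, hmem⟩ := exists_of_data hF (by omega) hreg g hgf
  refine ⟨v, g, h, hreg, ?_⟩
  set H := Subgroup.closure ({v, g * v * g⁻¹, h * v * h⁻¹} : Set (SU n F q)) with hH
  have hvH : v ∈ H := Subgroup.subset_closure (by simp)
  have huH : g * v * g⁻¹ ∈ H := Subgroup.subset_closure (by simp)
  have hkH : v⁻¹ * (v⁻¹ * ((g * v * g⁻¹) * v)) ∈ H :=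
    mul_mem (inv_mem hvH) (mul_mem (inv_mem hvH) (mul_mem huH hvH))
  have hkf : act (v⁻¹ * (v⁻¹ * ((g * v * g⁻¹) * v))) f = γ⁻¹ • f := by
    rw [act_mul, act_mul, act_mul _ v, hgv, act_smul, act_smul, act_inv_act, act_inv_act]
  have hfull : Full hF H f := by
    refine full_of_gen hF hff' hc hc0 hmem hkH hkf ?_
    intro y hy hy0
    obtain ⟨i, hi⟩ := hgen y⁻¹ (by rw [inv_pow, hy]) (inv_ne_zero hy0)
    refine ⟨i, ?_⟩
    rw [inv_pow, ← mul_inv, hγν, inv_pow, ← hi, inv_inv]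
  refine top_of_full_vec hF (by omega) hq hvH hreg hve hfe hfull (by rw [h1]; exact one_ne_zero) ?_
  rw [h1', h2, one_mul, one_mul]
  exact hγ0

end Cfsg.Agent.H108.Gen
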