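import Cfsg.Agent.H108.Top
import Cfsg.Agent.H108.Glue
import Cfsg.Agent.H108.FieldEl

/-!
# Auxiliary facts for the generation of `SU_n(q)` by regular unipotent elements (helper108)

* `sep_of_reg` : the vectors `v ^ j f` separate if `f` is not orthogonal to the fixed vector of `v`;
* `full_of_gen` : one transvection with centre `f` and an element with `k f = λ f`, `N(λ)` a
  generator, give the full transvection group.
-/

set_option autoImplicit false

namespace Cfsg.Agent.H108.Gen

open Cfsg Module Matrix Cfsg.Agent.LieClassical.HermBasic Cfsg.Agent.ClassicalGeometry.UnitTransv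
open Cfsg.Agent.H186 Cfsg.Agent.ClassicalGeometry.HermOrtho Cfsg.Agent.H108.Model
open Cfsg.Agent.H108.FullTr

variable {F : Type*} [Field F] [Fintype F] {n q : ℕ}

omit [Fintype F] in
theorem act_pow_succ (v : SU n F q) (j : ℕ) (x : Fin n → F) :
    act (v ^ (j + 1)) x = act v (act (v ^ j) x) := by
  rw [pow_succ', act_mul]

/-- The vectors `v ^ j f` separate, if `f` is not orthogonal to a fixed vector of `v`. -/
theorem sep_of_reg (hF : Fintype.card F = q ^ 2) (hn : 1 ≤ n) {v : SU n F q}
    (hv : IsReg (mat v)) {f e : Fin n → F} (he : act v e = e) (hfe : hermForm n F q f e ≠ 0)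
    {x : Fin n → F} (hx : ∀ j : ℕ, hermForm n F q (act (v ^ j) f) x = 0) : x = 0 := by
  by_contra hx0
  -- the property is inherited by `v x`
  have hstep : ∀ y : Fin n → F, (∀ j : ℕ, hermForm n F q (act (v ^ j) f) y = 0) →
      ∀ j : ℕ, hermForm n F q (act (v ^ j) f) ((mat v - 1) *ᵥ y) = 0 := by
    intro y hy j
    have h1 : (mat v - 1) *ᵥ y = act v y - y := by
      rw [Matrix.sub_mulVec, Matrix.one_mulVec]; rfl
    rw [h1, herm_sub_right hF, hy, sub_zero]
    have hord : 0 < orderOf v := orderOf_pos v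
    have h2 : act (v ^ j) f = act v (act (v ^ (j + (orderOf v - 1))) f) := by
      rw [← act_pow_succ]
      congr 1
      have : j + (orderOf v - 1) + 1 = j + orderOf v := by omega
      rw [this, pow_add, pow_orderOf_eq_one, mul_one]
    rw [h2, herm_act, hy]
  have hpow : ∀ k : ℕ, ∀ j : ℕ, hermForm n F q (act (v ^ j) f) (((mat v - 1) ^ k) *ᵥ x) = 0 := by
    intro k
    induction k with
    | zero => intro j; rw [pow_zero, Matrix.one_mulVec]; exact hx j
    | succ k ih =>
      intro j
      rw [pow_succ', ← Matrix.mulVec_mulVec]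
      exact hstep _ ih j
  -- the last nonzero vector `N ^ k x`
  have hex : ∃ k : ℕ, ((mat v - 1) ^ k) *ᵥ x = 0 := ⟨n, by rw [hv.1, Matrix.zero_mulVec]⟩
  classical
  have hk := Nat.find_spec hex
  set k := Nat.find hex with hkdef
  have hk0 : k ≠ 0 := by
    intro h
    rw [h, pow_zero, Matrix.one_mulVec] at hk
    exact hx0 hk
  obtain ⟨l, hl⟩ := Nat.exists_eq_succ_of_ne_zero hk0
  have hlmin : ((mat v - 1) ^ l) *ᵥ x ≠ 0 := Nat.find_min hex (by omega)
  set y := ((mat v - 1) ^ l) *ᵥ x with hy
  have hNy : (mat v - 1) *ᵥ y = 0 := by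
    rw [hy, Matrix.mulVec_mulVec, ← pow_succ', ← Nat.succ_eq_add_one, ← hl]
    exact hk
  -- `y` is a multiple of `e`
  have hker : finrank F (LinearMap.ker (Matrix.toLin' (mat v - 1))) = 1 := by
    have h1 := LinearMap.finrank_range_add_finrank_ker (Matrix.toLin' (mat v - 1))
    have h2 : finrank F (LinearMap.range (Matrix.toLin' (mat v - 1))) = n - 1 := hv.2
    rw [h2, Module.finrank_fin_fun] at h1
    omega
  have hyk : y ∈ LinearMap.ker (Matrix.toLin' (mat v - 1)) := by
    rw [LinearMap.mem_ker, Matrix.toLin'_apply]; exact hNy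
  have hek : e ∈ LinearMap.ker (Matrix.toLin' (mat v - 1)) := by
    rw [LinearMap.mem_ker, Matrix.toLin'_apply, Matrix.sub_mulVec, Matrix.one_mulVec, sub_eq_zero]
    exact he
  have he0 : e ≠ 0 := by
    rintro rfl
    exact hfe (herm_zero_right hF f)
  obtain ⟨a, ha⟩ := (finrank_eq_one_iff_of_nonzero'
    (⟨e, hek⟩ : LinearMap.ker (Matrix.toLin' (mat v - 1)))
    (fun h => he0 (congrArg Subtype.val h))).1 hker ⟨y, hyk⟩
  have ha' : a • e = y := congrArg Subtype.val ha
  have ha0 : a ≠ 0 := by
    rintro rfl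
    rw [zero_smul] at ha'
    exact hlmin ha'.symm
  have h3 := hpow l 0
  rw [pow_zero, act_one, ← hy, ← ha', herm_smul_right] at h3
  exact mul_ne_zero (pow_ne_zero _ ha0) hfe h3

/-- One transvection and an element acting on the transvection group as a generator. -/
theorem full_of_gen (hF : Fintype.card F = q ^ 2) {H : Subgroup (SU n F q)} {f : Fin n → F}
    (hff : hermForm n F q f f = 0) {b : F} (hb : b + b ^ q = 0) (hb0 : b ≠ 0)
    (hmem : utv hF f b hff hb ∈ H) {k : SU n F q} (hk : k ∈ H) {l : F} (hkf : act k f = l • f)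
    (hgen : ∀ x : F, x ^ q = x → x ≠ 0 → ∃ i : ℕ, x = (l * l ^ q) ^ i) : Full hF H f := by
  refine ⟨hff, fun c hc => ?_⟩
  by_cases hc0 : c = 0
  · have : utv hF f c hff hc = 1 := by
      apply ext_act
      intro x
      rw [act_utv, act_one, hc0, zero_mul, zero_smul, add_zero]
    rw [this]
    exact one_mem H
  have hbq : b ^ q = -b := by linear_combination hb
  have hcq : c ^ q = -c := by linear_combination hc
  obtain ⟨i, hi⟩ := hgen (c / b) (by rw [div_pow, hbq, hcq, neg_div_neg_eq]) (div_ne_zero hc0 hb0)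
  -- `k ^ i`
  have hki : ∀ i : ℕ, act (k ^ i) f = l ^ i • f := by
    intro i
    induction i with
    | zero => rw [pow_zero, pow_zero, act_one, one_smul]
    | succ i ih => rw [act_pow_succ, ih, act_smul, hkf, smul_smul, ← pow_succ]
  have hiso : hermForm n F q (act (k ^ i) f) (act (k ^ i) f) = 0 := by rw [herm_act, hff]
  have h1 := conj_utv hF (k ^ i) hff hiso hb
  have h2 : utv hF (act (k ^ i) f) b hiso hb = utv hF f c hff hc := by
    apply ext_act
    intro x
    rw [act_utv, act_utv, hki, herm_smul_right, smul_smul]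
    congr 2
    have h3 : c = (l * l ^ q) ^ i * b := by rw [← hi, div_mul_cancel₀ _ hb0]
    rw [h3, mul_pow]
    ring
  rw [← h2, ← h1]
  exact mul_mem (mul_mem (pow_mem hk i) hmem) (inv_mem (pow_mem hk i))

omit [Fintype F] in
/-- A conjugate of a regular unipotent element is regular unipotent. -/
theorem isReg_conj {v : SU n F q} (hv : IsReg (mat v)) (g : SU n F q) :
    IsReg (mat (g * v * g⁻¹)) := by
  have h := hv.conj (Matrix.SpecialLinearGroup.toGL (g : Matrix.SpecialLinearGroup (Fin n) F))
  have e : mat (g * v * g⁻¹) = (Matrix.SpecialLinearGroup.toGL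
      (g : Matrix.SpecialLinearGroup (Fin n) F) : Matrix (Fin n) (Fin n) F) * mat v *
      (((Matrix.SpecialLinearGroup.toGL (g : Matrix.SpecialLinearGroup (Fin n) F))⁻¹ :
        GL (Fin n) F) : Matrix (Fin n) (Fin n) F) := by
    rw [← map_inv]
    rfl
  rw [e]
  exact h

/-- the conclusion: three conjugate generators from `v`, a conjugate `u` of `v` with `u f = f`. -/
theorem exists_of_data (hF : Fintype.card F = q ^ 2) (hn : 3 ≤ n) {v : SU n F q}
    (hv : IsReg (mat v)) (g : SU n F q) {f : Fin n → F} (huf : act (g * v * g⁻¹) f = f) :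
    ∃ (hff : hermForm n F q f f = 0) (b : F) (hb : b + b ^ q = 0) (h : SU n F q), b ≠ 0 ∧
      utv hF f b hff hb ∈
        Subgroup.closure ({v, g * v * g⁻¹, h * v * h⁻¹} : Set (SU n F q)) := by
  obtain ⟨hff, b, hb, g', hb0, hg'⟩ := exists_conj_utv hF hn (isReg_conj hv g) huf
  refine ⟨hff, b, hb, g' * g, hb0, ?_⟩
  have h1 : g' * g * v * (g' * g)⁻¹ = utv hF f b hff hb * (g * v * g⁻¹) := by
    rw [← hg']
    group
  have h2 : utv hF f b hff hb = (g' * g * v * (g' * g)⁻¹) * (g * v * g⁻¹)⁻¹ := by
    rw [h1, mul_inv_cancel_right]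
  rw [h2]
  refine mul_mem (Subgroup.subset_closure ?_) (inv_mem (Subgroup.subset_closure ?_))
  · simp
  · simp

end Cfsg.Agent.H108.Gen
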