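import Cfsg.Agent.H108.Extend

/-!
# Extension of nondegenerate subspaces of full isotropic vectors (helper108), second part
-/

set_option autoImplicit false

namespace Cfsg.Agent.H108.FullTr

open Cfsg Module Cfsg.Agent.LieClassical.HermBasic Cfsg.Agent.ClassicalGeometry.UnitTransv
open Cfsg.Agent.ClassicalGeometry.HermOrtho
open scoped Matrix

variable {F : Type*} [Field F] [Fintype F] {n q : ℕ} (hF : Fintype.card F = q ^ 2)
include hF

section Main

variable {H : Subgroup (SU n F q)} {M : Submodule F (Fin n → F)}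
  (hfull : ∀ w ∈ M, hermForm n F q w w = 0 → Full hF H w)

/-- `M ⊕ ⟨d'⟩` is nondegenerate if `d' ∈ M^⊥` is anisotropic. -/
theorem nd_sup_span (hM : ND q M) {d' : Fin n → F} (hd' : ∀ y ∈ M, hermForm n F q d' y = 0)
    (hdd : hermForm n F q d' d' ≠ 0) : ND q (M ⊔ Submodule.span F {d'}) := by
  intro x hx h
  obtain ⟨m, hm, z, hz, rfl⟩ := Submodule.mem_sup.1 hx
  obtain ⟨a, rfl⟩ := Submodule.mem_span_singleton.1 hz
  have h1 := h d' (Submodule.mem_sup_right (Submodule.mem_span_singleton_self d'))
  rw [herm_add_left, herm_smul_left, herm_eq_zero_swap hF (hd' m hm), zero_add] at h1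
  have ha : a = 0 := (mul_eq_zero.1 h1).resolve_right hdd
  rw [ha, zero_smul, add_zero]
  refine hM m hm fun y hy => ?_
  have h2 := h y (Submodule.mem_sup_left hy)
  rwa [ha, zero_smul, add_zero] at h2

include hfull in
/-- From `M` and a full vector `m + d'` with `d' ∈ M^⊥` anisotropic, `m ≠ 0`, to `M ⊕ ⟨d'⟩`. -/
theorem full_sup_span (hM : ND q M)
    (hcase : 4 ≤ finrank F M ∨ (3 ≤ q ∧ 2 ≤ finrank F M) ∨ finrank F M = 2)
    {m d' : Fin n → F} (hm : m ∈ M) (hd' : ∀ y ∈ M, hermForm n F q d' y = 0)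
    (hdd : hermForm n F q d' d' ≠ 0) (hd : Full hF H (m + d')) :
    ∀ w ∈ M ⊔ Submodule.span F {d'}, hermForm n F q w w = 0 → Full hF H w := by
  intro x hx hxx
  obtain ⟨m1, hm1, z, hz, rfl⟩ := Submodule.mem_sup.1 hx
  obtain ⟨a, rfl⟩ := Submodule.mem_span_singleton.1 hz
  have hmd : ∀ y ∈ M, hermForm n F q y d' = 0 := fun y hy => herm_eq_zero_swap hF (hd' y hy)
  rw [herm_add_left, herm_add_right hF, herm_add_right hF, herm_smul_left, herm_smul_right,
    herm_smul_left, herm_smul_right, hmd m1 hm1, hd' m1 hm1, mul_zero, mul_zero, add_zero,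
    zero_add] at hxx
  by_cases ha : a = 0
  · rw [ha, zero_smul, add_zero]
    rw [ha, zero_mul, add_zero] at hxx
    exact hfull m1 hm1 hxx
  have hdiso := hd.1
  rw [herm_add_left, herm_add_right hF, herm_add_right hF, hmd m hm, hd' m hm, add_zero,
    zero_add] at hdiso
  have haq : a ^ q ≠ 0 := pow_ne_zero _ ha
  have h1 : hermForm n F q (a⁻¹ • m1) (a⁻¹ • m1) = hermForm n F q m m := by
    rw [herm_smul_left, herm_smul_right, inv_pow]
    field_simp
    linear_combination hxx - a * a ^ q * hdiso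
  have h2 : hermForm n F q (a⁻¹ • m1) (a⁻¹ • m1) ≠ 0 := by
    rw [h1]
    intro h0
    rw [h0, zero_add] at hdiso
    exact hdd hdiso
  obtain ⟨g, hg, hfix, hgm⟩ := conn_norm hF hfull hM hcase hm (M.smul_mem a⁻¹ hm1) h1.symm h2
  have h3 := (hd.map hF hg).smul hF a
  rw [act_add, hgm, hfix d' hd', smul_add, smul_smul, mul_inv_cancel₀ ha, one_smul] at h3
  exact h3

/-- every nonzero vector of `M` is non-orthogonal to an isotropic vector of `M`, `dim M ≥ 2`. -/
theorem exists_iso_not_perp (hM : ND q M) (h2 : 2 ≤ finrank F M) {y : Fin n → F} (hy : y ∈ M)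
    (hy0 : y ≠ 0) : ∃ z ∈ M, hermForm n F q z z = 0 ∧ hermForm n F q y z ≠ 0 := by
  by_cases hyy : hermForm n F q y y = 0
  · obtain ⟨x, hx, hyx⟩ : ∃ x ∈ M, hermForm n F q y x ≠ 0 := by
      by_contra hcon
      push Not at hcon
      exact hy0 (hM y hy hcon)
    obtain ⟨t, ht⟩ : ∃ t : F, t + t ^ q = -hermForm n F q x x := by
      apply exists_trace_eq hF
      rw [neg_pow_q hF, herm_self_pow hF]
    have hxy : hermForm n F q x y = (hermForm n F q y x) ^ q := herm_swap hF y x
    have hyxq : (hermForm n F q y x) ^ q ≠ 0 := pow_ne_zero _ hyx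
    refine ⟨x + (t / hermForm n F q y x) • y, M.add_mem hx (M.smul_mem _ hy), ?_, ?_⟩
    · simp only [herm_add_left, herm_add_right hF, herm_smul_left, herm_smul_right, hyy, hxy,
        div_pow]
      have e1 : t / hermForm n F q y x * hermForm n F q y x = t := div_mul_cancel₀ _ hyx
      have e2 : t ^ q / (hermForm n F q y x) ^ q * (hermForm n F q y x) ^ q = t ^ q :=
        div_mul_cancel₀ _ hyxq
      linear_combination e1 + e2 + ht
    · rw [herm_add_right hF, herm_smul_right, hyy, mul_zero, add_zero]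
      exact hyx
  · obtain ⟨s, hs, hsy, hss⟩ := exists_unit_perp hF (nd_singleton (v := y) hyy) hM
      ((Submodule.span_singleton_le_iff_mem y M).2 hy) (by
        intro h
        have := finrank_span_singleton_le y
        rw [h] at this
        omega)
    obtain ⟨c, hc⟩ : ∃ c : F, c * c ^ q = -hermForm n F q y y := by
      apply exists_norm_eq hF
      rw [neg_pow_q hF, herm_self_pow hF]
    have hsy' := hsy y (Submodule.mem_span_singleton_self y)
    have hys : hermForm n F q y s = 0 := herm_eq_zero_swap hF hsy'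
    refine ⟨y + c • s, M.add_mem hy (M.smul_mem _ hs), ?_, ?_⟩
    · simp only [herm_add_left, herm_add_right hF, herm_smul_left, herm_smul_right, hss, hys,
        hsy']
      linear_combination hc
    · rw [herm_add_right hF, herm_smul_right, hys, mul_zero, add_zero]
      exact hyy

/-- every vector of `M` is a sum of two isotropic vectors of `M`, `dim M ≥ 2`. -/
theorem exists_iso_add (hM : ND q M) (h2 : 2 ≤ finrank F M) {y : Fin n → F} (hy : y ∈ M) :
    ∃ x ∈ M, ∃ z ∈ M, hermForm n F q x x = 0 ∧ hermForm n F q z z = 0 ∧ y = x + z := by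
  by_cases hy0 : y = 0
  · exact ⟨0, M.zero_mem, 0, M.zero_mem, herm_zero_left _, herm_zero_left _, by rw [hy0, add_zero]⟩
  obtain ⟨z, hz, hzz, hyz⟩ := exists_iso_not_perp hF hM h2 hy hy0
  obtain ⟨t, ht⟩ : ∃ t : F, t + t ^ q = hermForm n F q y y := by
    apply exists_trace_eq hF
    rw [herm_self_pow hF]
  have hzy : hermForm n F q z y = (hermForm n F q y z) ^ q := herm_swap hF y z
  have hyzq : (hermForm n F q y z) ^ q ≠ 0 := pow_ne_zero _ hyz
  -- `x = c z` with `h(y, x) = t`
  set c : F := (t / hermForm n F q y z) ^ q with hc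
  have hcq : c ^ q * hermForm n F q y z = t := by
    rw [hc, pow_q_pow_q hF, div_mul_cancel₀ _ hyz]
  have hcq' : c * (hermForm n F q y z) ^ q = t ^ q := by
    rw [hc, div_pow, div_mul_cancel₀ _ hyzq]
  refine ⟨c • z, M.smul_mem _ hz, y - c • z, M.sub_mem hy (M.smul_mem _ hz), ?_, ?_, by abel⟩
  · rw [herm_smul_left, herm_smul_right, hzz, mul_zero, mul_zero]
  · simp only [herm_sub_left, herm_sub_right hF, herm_smul_left, herm_smul_right, hzz, hzy]
    linear_combination -hcq - hcq' - ht

section Two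

variable (hM : ND q M) (h3 : 3 ≤ finrank F M) {m d' : Fin n → F} (hm : m ∈ M) (hm0 : m ≠ 0)
  (hd' : ∀ y ∈ M, hermForm n F q d' y = 0) (hd0 : d' ≠ 0) (hdd : hermForm n F q d' d' = 0)
  (hd : Full hF H (m + d'))

include hfull hM h3 hm hm0 hd' hdd hd

/-- all `x + d'`, `x ∈ M` nonzero isotropic, are full. -/
theorem full_add {x : Fin n → F} (hx : x ∈ M) (hx0 : x ≠ 0) (hxx : hermForm n F q x x = 0) :
    Full hF H (x + d') := by
  have hmm : hermForm n F q m m = 0 := by
    have := hd.1
    rw [herm_add_left, herm_add_right hF, herm_add_right hF, hdd, hd' m hm,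
      herm_eq_zero_swap hF (hd' m hm)] at this
    linear_combination this
  obtain ⟨g, hg, hfix, hgm⟩ := conn_iso hF hfull hM h3 hm hx hm0 hx0 hmm hxx
  have h := hd.map hF hg
  rwa [act_add, hgm, hfix d' hd'] at h

/-- the Siegel transformations with axis `d'` and an isotropic vector of `M`. -/
theorem siegel_mem_iso {x : Fin n → F} (hx : x ∈ M) (hxx : hermForm n F q x x = 0) {b : F}
    (hb : b + b ^ q = 0) (hwu : hermForm n F q (b • x) d' = 0)
    (hμ : b + b ^ q + hermForm n F q (b • x) (b • x) = 0) :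
    siegel hF d' (b • x) b hdd hwu hμ ∈ H ∨ x = 0 := by
  by_cases hx0 : x = 0
  · exact Or.inr hx0
  left
  have hfx := full_add hF hfull hM h3 hm hm0 hd' hdd hd hx hx0 hxx
  have hfx' := hfull x hx hxx
  have hbn : (-b) + (-b) ^ q = 0 := by rw [neg_pow_q hF]; linear_combination -hb
  have hxd : hermForm n F q x d' = 0 := herm_eq_zero_swap hF (hd' x hx)
  have : siegel hF d' (b • x) b hdd hwu hμ =
      utv hF (x + d') b hfx.1 hb * utv hF x (-b) hxx hbn := by
    apply ext_act
    intro z
    rw [act_mul, act_siegel, act_utv, act_utv]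
    have hbq : b ^ q = -b := by linear_combination hb
    simp only [herm_add_left, herm_add_right hF, herm_smul_left, herm_smul_right, hxx, hxd, hbq]
    module
  rw [this]
  exact mul_mem (hfx.2 b hb) (hfx'.2 (-b) hbn)

/-- the vector `d'` is full. -/
theorem full_d : Full hF H d' := by
  refine ⟨hdd, fun c hc => ?_⟩
  -- two isotropic vectors with prescribed product
  obtain ⟨b, hb0, hb⟩ := exists_trace_zero_ne hF
  have hbq : b ^ q = -b := by linear_combination hb
  have hmm : hermForm n F q m m = 0 := by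
    have := hd.1
    rw [herm_add_left, herm_add_right hF, herm_add_right hF, hdd, hd' m hm,
      herm_eq_zero_swap hF (hd' m hm)] at this
    linear_combination this
  obtain ⟨z, hz, hzz, hmz⟩ := exists_iso_not_perp hF hM (by omega) hm hm0
  -- `c = y - y ^ q`
  obtain ⟨y, hy⟩ := exists_sub_pow_eq hF hc
  -- `x = a z` with `h(b m, b x) = -y b²`, i.e. `h(m, x) = y / (b b^q)`
  set a : F := (y / (b * b ^ q) / hermForm n F q m z) ^ q with ha
  have hbb : b * b ^ q ≠ 0 := mul_ne_zero hb0 (pow_ne_zero _ hb0)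
  have haq : a ^ q * hermForm n F q m z = y / (b * b ^ q) := by
    rw [ha, pow_q_pow_q hF, div_mul_cancel₀ _ hmz]
  set x : Fin n → F := a • z with hx
  have hxM : x ∈ M := M.smul_mem _ hz
  have hxx : hermForm n F q x x = 0 := by
    rw [hx, herm_smul_left, herm_smul_right, hzz, mul_zero, mul_zero]
  have hmx : hermForm n F q m x = y / (b * b ^ q) := by
    rw [hx, herm_smul_right, haq]
  have hxm : hermForm n F q x m = y ^ q / (b * b ^ q) := by
    rw [herm_swap hF m x, hmx, div_pow, norm_pow_q hF]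
  clear_value x
  have hcw : hermForm n F q (b • m) (b • x) - hermForm n F q (b • x) (b • m) = c := by
    rw [herm_smul_left, herm_smul_right, herm_smul_left, herm_smul_right, hmx, hxm]
    have e1 : b * (b ^ q * (y / (b * b ^ q))) = y := by field_simp
    have e2 : b * (b ^ q * (y ^ q / (b * b ^ q))) = y ^ q := by field_simp
    rw [e1, e2, hy]
  have hd'm : ∀ w ∈ M, hermForm n F q w d' = 0 := fun w hw => herm_eq_zero_swap hF (hd' w hw)
  have hμ : ∀ w : Fin n → F, hermForm n F q w w = 0 →
      b + b ^ q + hermForm n F q (b • w) (b • w) = 0 := by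
    intro w hw
    rw [herm_smul_left, herm_smul_right, hw, hb]; ring
  rcases eq_or_ne x 0 with hx0 | hx0
  · -- then `c = 0`
    rw [hx0, smul_zero, herm_zero_right hF, herm_zero_left, sub_self] at hcw
    have : utv hF d' c hdd hc = 1 := by
      apply ext_act
      intro w
      rw [act_utv, act_one, ← hcw, zero_mul, zero_smul, add_zero]
    rw [this]
    exact one_mem H
  · have h1 := siegel_mem_iso hF hfull hM h3 hm hm0 hd' hdd hd hm hmm hb
      (hd'm _ (M.smul_mem b hm)) (hμ m hmm)
    have h2 := siegel_mem_iso hF hfull hM h3 hm hm0 hd' hdd hd hxM hxx hb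
      (hd'm _ (M.smul_mem b hxM)) (hμ x hxx)
    replace h1 := h1.resolve_right hm0
    replace h2 := h2.resolve_right hx0
    have h4 := siegel_mul_comm hF hdd (hd'm _ (M.smul_mem b hm)) (hμ m hmm)
      (hd'm _ (M.smul_mem b hxM)) (hμ x hxx) hc hcw
    have h5 : utv hF d' c hdd hc = siegel hF d' (b • m) b hdd (hd'm _ (M.smul_mem b hm)) (hμ m hmm)
        * siegel hF d' (b • x) b hdd (hd'm _ (M.smul_mem b hxM)) (hμ x hxx) *
        (siegel hF d' (b • x) b hdd (hd'm _ (M.smul_mem b hxM)) (hμ x hxx) *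
        siegel hF d' (b • m) b hdd (hd'm _ (M.smul_mem b hm)) (hμ m hmm))⁻¹ := by
      rw [h4, mul_inv_cancel_right]
    rw [h5]
    exact mul_mem (mul_mem h1 h2) (inv_mem (mul_mem h2 h1))

/-- all Siegel transformations with axis `d'` and a vector of `M`, for some scalar. -/
theorem exists_siegel_mem {w : Fin n → F} (hw : w ∈ M) :
    ∃ A ∈ H, ∀ z, ∃ t : F, act A z = z + hermForm n F q z d' • w + t • d' := by
  obtain ⟨b, hb0, hb⟩ := exists_trace_zero_ne hF
  have hd'm : ∀ w ∈ M, hermForm n F q w d' = 0 := fun w hw => herm_eq_zero_swap hF (hd' w hw)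
  have hμ : ∀ w : Fin n → F, hermForm n F q w w = 0 →
      b + b ^ q + hermForm n F q (b • w) (b • w) = 0 := by
    intro w hw
    rw [herm_smul_left, herm_smul_right, hw, hb]; ring
  have key : ∀ x ∈ M, hermForm n F q x x = 0 →
      ∃ A ∈ H, ∀ z, ∃ t : F, act A z = z + hermForm n F q z d' • (b • x) + t • d' := by
    intro x hx hxx
    rcases siegel_mem_iso hF hfull hM h3 hm hm0 hd' hdd hd hx hxx hb (hd'm _ (M.smul_mem b hx))
      (hμ x hxx) with h | h
    · exact ⟨_, h, fun z => ⟨_, act_siegel hF _ _ _ z⟩⟩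
    · exact ⟨1, one_mem H, fun z => ⟨0, by rw [h, act_one, smul_zero, smul_zero, zero_smul]; simp⟩⟩
  obtain ⟨x, hx, y, hy, hxx, hyy, hxy⟩ := exists_iso_add hF hM (by omega) (M.smul_mem b⁻¹ hw)
  obtain ⟨A, hA, hAz⟩ := key x hx hxx
  obtain ⟨B, hB, hBz⟩ := key y hy hyy
  have hwxy : w = b • x + b • y := by
    rw [← smul_add, ← hxy, smul_smul, mul_inv_cancel₀ hb0, one_smul]
  refine ⟨A * B, mul_mem hA hB, fun z => ?_⟩
  obtain ⟨t, ht⟩ := hBz z
  obtain ⟨t', ht'⟩ := hAz (act B z)
  have hBd : hermForm n F q (act B z) d' = hermForm n F q z d' := by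
    rw [ht]
    simp only [herm_add_left, herm_smul_left, hdd, hd'm y hy]
    ring
  refine ⟨t + t', ?_⟩
  rw [act_mul, ht', hBd, ht, hwxy]
  module

/-- From `M` and a full vector `m + d'` with `d' ∈ M^⊥` isotropic, `m ≠ 0`, and a full vector `g`
not orthogonal to `d'`, to `M ⊕ P`. -/
theorem extend_two {g : Fin n → F} (hg : Full hF H g) (hgd : hermForm n F q g d' ≠ 0) :
    ∃ M1 : Submodule F (Fin n → F), M < M1 ∧ ND q M1 ∧ 4 ≤ finrank F M1 ∧
      ∀ w ∈ M1, hermForm n F q w w = 0 → Full hF H w := by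
  have hd'm : ∀ w ∈ M, hermForm n F q w d' = 0 := fun w hw => herm_eq_zero_swap hF (hd' w hw)
  have hfd := full_d hF hfull hM h3 hm hm0 hd' hdd hd
  obtain ⟨m2, hm2, g', hg', hgg'⟩ := exists_add_perp hF M hM g
  have hg'M : ∀ y ∈ M, hermForm n F q g' y = 0 := hg'
  set e := hermForm n F q g d' with he
  -- move `g` into `M^⊥`
  obtain ⟨A, hA, hAz⟩ := exists_siegel_mem hF hfull hM h3 hm hm0 hd' hdd hd
    (M.smul_mem (-e⁻¹) hm2)
  obtain ⟨t, ht⟩ := hAz g
  set p : Fin n → F := g' + t • d' with hp
  have hAg : act A g = p := by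
    rw [ht, ← he, smul_smul, mul_neg, mul_inv_cancel₀ hgd, neg_smul, one_smul, hgg', hp]
    module
  have hfp : Full hF H p := by rw [← hAg]; exact hg.map hF hA
  have hpM : ∀ y ∈ M, hermForm n F q p y = 0 := by
    intro y hy
    rw [hp, herm_add_left, herm_smul_left, hg'M y hy, hd' y hy, mul_zero, add_zero]
  have hMp : ∀ y ∈ M, hermForm n F q y p = 0 := fun y hy => herm_eq_zero_swap hF (hpM y hy)
  have hpd : hermForm n F q p d' = e := by
    have h1 : hermForm n F q g d' = hermForm n F q g' d' := by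
      rw [hgg', herm_add_left, hd'm m2 hm2, zero_add]
    rw [hp, herm_add_left, herm_smul_left, hdd, mul_zero, add_zero, ← h1]
  have hdp : hermForm n F q d' p ≠ 0 := fun h => hgd (by rw [← hpd]; exact herm_eq_zero_swap hF h)
  have hpd0 : hermForm n F q p d' ≠ 0 := by rw [hpd]; exact hgd
  set P : Submodule F (Fin n → F) := Submodule.span F {d', p} with hP
  have hPM : ∀ x ∈ P, ∀ y ∈ M, hermForm n F q x y = 0 := by
    intro x hx y hy
    obtain ⟨a, b, rfl⟩ := Submodule.mem_span_pair.1 hx
    rw [herm_add_left, herm_smul_left, herm_smul_left, hd' y hy, hpM y hy, mul_zero, mul_zero,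
      add_zero]
  have hPnd : ND q P := nd_pair hF hdd hfp.1 hdp
  refine ⟨M ⊔ P, ?_, ?_, ?_, ?_⟩
  · refine lt_of_le_of_ne le_sup_left fun h => ?_
    have hd'M : d' ∈ M := by
      rw [h]
      exact Submodule.mem_sup_right (Submodule.subset_span (by simp))
    exact hpd0 (hpM d' hd'M)
  · intro x hx h
    obtain ⟨y, hy, z, hz, rfl⟩ := Submodule.mem_sup.1 hx
    have hz0 : z = 0 := by
      refine hPnd z hz fun w hw => ?_
      have h1 := h w (Submodule.mem_sup_right hw)
      rwa [herm_add_left, herm_eq_zero_swap hF (hPM w hw y hy), zero_add] at h1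
    have hy0 : y = 0 := by
      refine hM y hy fun w hw => ?_
      have h1 := h w (Submodule.mem_sup_left hw)
      rwa [hz0, add_zero] at h1
    rw [hz0, hy0, add_zero]
  · -- `d' ∉ M`
    have hlt : M < M ⊔ P := by
      refine lt_of_le_of_ne le_sup_left fun h => ?_
      have hd'M : d' ∈ M := by
        rw [h]
        exact Submodule.mem_sup_right (Submodule.subset_span (by simp))
      exact hpd0 (hpM d' hd'M)
    have := Submodule.finrank_lt_finrank_of_lt hlt
    omega
  · intro x hx hxx
    obtain ⟨y, hy, z, hz, rfl⟩ := Submodule.mem_sup.1 hx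
    obtain ⟨a, b, rfl⟩ := Submodule.mem_span_pair.1 hz
    by_cases hb : b = 0
    · rw [hb, zero_smul, add_zero] at hxx ⊢
      have hyy : hermForm n F q y y = 0 := by
        rw [herm_add_left, herm_add_right hF, herm_add_right hF, herm_smul_left, herm_smul_right,
          herm_smul_left, herm_smul_right, hdd, hd' y hy, hd'm y hy] at hxx
        linear_combination hxx
      by_cases ha : a = 0
      · rw [ha, zero_smul, add_zero]
        exact hfull y hy hyy
      · by_cases hy0 : y = 0
        · rw [hy0, zero_add]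
          exact hfd.smul hF a
        · have h1 := (full_add hF hfull hM h3 hm hm0 hd' hdd hd (M.smul_mem a⁻¹ hy)
            (smul_ne_zero (inv_ne_zero ha) hy0) (by
              rw [herm_smul_left, herm_smul_right, hyy, mul_zero, mul_zero])).smul hF a
          rwa [smul_add, smul_smul, mul_inv_cancel₀ ha, one_smul] at h1
    · set x : Fin n → F := y + (a • d' + b • p) with hxdef
      have hxd : hermForm n F q x d' = b * e := by
        rw [hxdef, herm_add_left, herm_add_left, herm_smul_left, herm_smul_left, hdd, hpd,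
          hd'm y hy]
        ring
      have hbe : b * e ≠ 0 := mul_ne_zero hb hgd
      obtain ⟨B, hB, hBz⟩ := exists_siegel_mem hF hfull hM h3 hm hm0 hd' hdd hd
        (M.smul_mem (-(b * e)⁻¹) hy)
      obtain ⟨t', ht'⟩ := hBz x
      have hBx : act B x = (a + t') • d' + b • p := by
        rw [ht', hxd, smul_smul, mul_neg, mul_inv_cancel₀ hbe, neg_smul, one_smul, hxdef]
        module
      have hiso : hermForm n F q ((a + t') • d' + b • p) ((a + t') • d' + b • p) = 0 := by
        rw [← hBx, herm_act, hxx]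
      have h1 := (hfd.line hF hfp hdp hiso).map hF (inv_mem hB)
      rwa [← hBx, act_inv_act] at h1

end Two

end Main

end Cfsg.Agent.H108.FullTr
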