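import Cfsg.Agent.H108.FiveMain

/-!
# `SU_3(q)`: conjugacy of regular unipotent elements, root groups (helper108)
-/

set_option autoImplicit false
set_option linter.unusedSimpArgs false

namespace Cfsg.Agent.H108.Three

open Cfsg Module Matrix Cfsg.Agent.LieClassical.HermBasic Cfsg.Agent.ClassicalGeometry.UnitTransv
open Cfsg.Agent.H186 Cfsg.Agent.ClassicalGeometry.HermOrtho Cfsg.Agent.H108.Model
open Cfsg.Agent.H108.FullTr Cfsg.Agent.H108.FieldEl Cfsg.Agent.H108.Gen

variable {F : Type*} [Field F] {q : ℕ}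

/-- The determinant of three vectors. -/
def D3 (x y z : Fin 3 → F) : F := (Matrix.of ![x, y, z]).det

theorem D3_eq (x y z : Fin 3 → F) : D3 x y z = x 0 * y 1 * z 2 - x 0 * y 2 * z 1 -
    x 1 * y 0 * z 2 + x 1 * y 2 * z 0 + x 2 * y 0 * z 1 - x 2 * y 1 * z 0 := by
  rw [D3, Matrix.det_fin_three]
  simp

theorem D3_mulVec (M : Matrix (Fin 3) (Fin 3) F) (x y z : Fin 3 → F) :
    D3 (M *ᵥ x) (M *ᵥ y) (M *ᵥ z) = M.det * D3 x y z := by
  rw [D3_eq, D3_eq, Matrix.det_fin_three]
  simp only [Matrix.mulVec, dotProduct, Fin.sum_univ_three]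
  ring

theorem D3_act (g : SU 3 F q) (x y z : Fin 3 → F) :
    D3 (act g x) (act g y) (act g z) = D3 x y z := by
  have h : (mat g).det = 1 := g.1.2
  have := D3_mulVec (mat g) x y z
  rw [h, one_mul] at this
  exact this

/-- Three vectors with nonzero determinant span. -/
theorem exists_comb {x y z : Fin 3 → F} (h : D3 x y z ≠ 0) (w : Fin 3 → F) :
    ∃ a b c : F, w = a • x + b • y + c • z := by
  refine ⟨D3 w y z / D3 x y z, D3 x w z / D3 x y z, D3 x y w / D3 x y z, ?_⟩
  have h' : ∀ i, (D3 x y z) * w i = D3 w y z * x i + D3 x w z * y i + D3 x y w * z i := by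
    intro i
    simp only [D3_eq]
    fin_cases i <;> simp <;> ring
  ext i
  simp only [Pi.add_apply, Pi.smul_apply, smul_eq_mul]
  field_simp
  linear_combination h' i

theorem eq_zero_of_comb {x y z : Fin 3 → F} (h : D3 x y z ≠ 0) {a b c : F}
    (h0 : a • x + b • y + c • z = 0) : a = 0 ∧ b = 0 ∧ c = 0 := by
  have h1 : D3 (a • x + b • y + c • z) y z = a * D3 x y z := by
    simp only [D3_eq, Pi.add_apply, Pi.smul_apply, smul_eq_mul]; ring
  have h2 : D3 x (a • x + b • y + c • z) z = b * D3 x y z := by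
    simp only [D3_eq, Pi.add_apply, Pi.smul_apply, smul_eq_mul]; ring
  have h3 : D3 x y (a • x + b • y + c • z) = c * D3 x y z := by
    simp only [D3_eq, Pi.add_apply, Pi.smul_apply, smul_eq_mul]; ring
  rw [h0] at h1 h2 h3
  have e1 : D3 (0 : Fin 3 → F) y z = 0 := by simp [D3_eq]
  have e2 : D3 x (0 : Fin 3 → F) z = 0 := by simp [D3_eq]
  have e3 : D3 x y (0 : Fin 3 → F) = 0 := by simp [D3_eq]
  rw [e1] at h1
  rw [e2] at h2
  rw [e3] at h3
  exact ⟨(mul_eq_zero.1 h1.symm).resolve_right h, (mul_eq_zero.1 h2.symm).resolve_right h,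
    (mul_eq_zero.1 h3.symm).resolve_right h⟩

/-- The nilpotent part. -/
def nl (v : SU 3 F q) (x : Fin 3 → F) : Fin 3 → F := act v x - x

theorem nl_eq (v : SU 3 F q) (x : Fin 3 → F) : nl v x = (mat v - 1) *ᵥ x := by
  rw [Matrix.sub_mulVec, Matrix.one_mulVec]; rfl

theorem nl_add (v : SU 3 F q) (x y : Fin 3 → F) : nl v (x + y) = nl v x + nl v y := by
  simp only [nl, act_add]; abel

theorem nl_smul (v : SU 3 F q) (c : F) (x : Fin 3 → F) : nl v (c • x) = c • nl v x := by
  simp only [nl, act_smul, smul_sub]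

theorem nl_cube {v : SU 3 F q} (hv : IsReg (mat v)) (x : Fin 3 → F) :
    nl v (nl v (nl v x)) = 0 := by
  rw [nl_eq, nl_eq, nl_eq, Matrix.mulVec_mulVec, Matrix.mulVec_mulVec]
  have : (mat v - 1) * (mat v - 1) * (mat v - 1) = (mat v - 1) ^ 3 := by
    rw [pow_succ, pow_two]
  rw [this, hv.1, Matrix.zero_mulVec]

/-- Regular unipotent from a cyclic vector. -/
theorem isReg_of_D3 {v : SU 3 F q} (h3 : ∀ x, nl v (nl v (nl v x)) = 0) {z : Fin 3 → F}
    (hD : D3 z (nl v z) (nl v (nl v z)) ≠ 0) : IsReg (mat v) := by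
  constructor
  · apply Matrix.toLin'.injective
    apply LinearMap.ext
    intro x
    have h := h3 x
    rw [nl_eq, nl_eq, nl_eq, Matrix.mulVec_mulVec, Matrix.mulVec_mulVec] at h
    rw [Matrix.toLin'_apply, map_zero, LinearMap.zero_apply, ← h]
    congr 1
    rw [pow_succ, pow_two]
  · have hker : finrank F (LinearMap.ker (Matrix.toLin' (mat v - 1))) = 1 := by
      rw [finrank_eq_one_iff']
      have hz : nl v (nl v z) ∈ LinearMap.ker (Matrix.toLin' (mat v - 1)) := by
        rw [LinearMap.mem_ker, Matrix.toLin'_apply, ← nl_eq]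
        exact h3 z
      refine ⟨⟨_, hz⟩, ?_, ?_⟩
      · intro h
        apply hD
        have h' : nl v (nl v z) = 0 := congrArg Subtype.val h
        rw [h']
        simp [D3_eq]
      · rintro ⟨x, hx⟩
        rw [LinearMap.mem_ker, Matrix.toLin'_apply, ← nl_eq] at hx
        obtain ⟨a, b, c, rfl⟩ := exists_comb hD x
        rw [nl_add, nl_add, nl_smul, nl_smul, nl_smul, h3, smul_zero, add_zero] at hx
        have h1 := eq_zero_of_comb hD (a := 0) (b := a) (c := b) (by rw [zero_smul, zero_add, hx])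
        refine ⟨c, Subtype.ext ?_⟩
        change c • nl v (nl v z) = a • z + b • nl v z + c • nl v (nl v z)
        rw [h1.2.1, h1.2.2]
        simp
    have h1 := LinearMap.finrank_range_add_finrank_ker (Matrix.toLin' (mat v - 1))
    rw [hker, Module.finrank_fin_fun] at h1
    have h2 : (mat v - 1).rank = finrank F (LinearMap.range (Matrix.toLin' (mat v - 1))) := rfl
    omega

variable [Fintype F]

theorem herm_nl (hF : Fintype.card F = q ^ 2) {v : SU 3 F q} {x : Fin 3 → F} (hx : nl v x = 0)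
    (y : Fin 3 → F) : hermForm 3 F q x (nl v y) = 0 := by
  have h1 : act v x = x := sub_eq_zero.1 hx
  rw [nl, herm_sub_right hF]
  have h2 := herm_act v x y
  rw [h1] at h2
  rw [h2, sub_self]

/-- Conjugacy of regular unipotent elements of `SU_3(q)`. -/
theorem exists_conj_three (hF : Fintype.card F = q ^ 2) {v u : SU 3 F q} (hv : IsReg (mat v))
    (hu : IsReg (mat u)) {x z : Fin 3 → F} {a : F} (ha : a ≠ 0)
    (hD0 : D3 x (nl v x) (nl v (nl v x)) ≠ 0)
    (hh0 : hermForm 3 F q (nl v (nl v x)) x ≠ 0)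
    (hD : D3 z (nl u z) (nl u (nl u z)) = a ^ 3 * D3 x (nl v x) (nl v (nl v x)))
    (hh : hermForm 3 F q (nl u (nl u z)) z = a * a ^ q * hermForm 3 F q (nl v (nl v x)) x) :
    ∃ g : SU 3 F q, g * v * g⁻¹ = u := by
  obtain ⟨y, hy, hyv⟩ := IsReg.exists_conj hF (by norm_num) hv hu (st_mat hF v) (st_mat hF u)
  have hyiso := isometry_of_st hF hy
  have hyact : ∀ w, y *ᵥ (act v w) = act u (y *ᵥ w) := by
    intro w
    have h2 : act v w = mat v *ᵥ w := rfl
    have h3 : act u (y *ᵥ w) = mat u *ᵥ (y *ᵥ w) := rfl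
    rw [h2, h3, Matrix.mulVec_mulVec, hyv, ← Matrix.mulVec_mulVec]
  have hynl : ∀ w, y *ᵥ (nl v w) = nl u (y *ᵥ w) := by
    intro w
    rw [nl, Matrix.mulVec_sub, hyact]; rfl
  have hDz : D3 z (nl u z) (nl u (nl u z)) ≠ 0 := by
    rw [hD]
    exact mul_ne_zero (pow_ne_zero _ ha) hD0
  obtain ⟨α, β, γ, hαβγ⟩ := exists_comb hDz (y *ᵥ x)
  have h1 : nl u (y *ᵥ x) = α • nl u z + β • nl u (nl u z) := by
    rw [hαβγ, nl_add, nl_add, nl_smul, nl_smul, nl_smul, nl_cube hu, smul_zero, add_zero]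
  have h2 : nl u (nl u (y *ᵥ x)) = α • nl u (nl u z) := by
    rw [h1, nl_add, nl_smul, nl_smul, nl_cube hu, smul_zero, add_zero]
  have hdet : y.det = (α * a) ^ 3 := by
    have h3 := D3_mulVec y x (nl v x) (nl v (nl v x))
    rw [hynl, hynl, hynl, h2, h1, hαβγ] at h3
    have h4 : D3 (α • z + β • nl u z + γ • nl u (nl u z)) (α • nl u z + β • nl u (nl u z))
        (α • nl u (nl u z)) = α ^ 3 * D3 z (nl u z) (nl u (nl u z)) := by
      simp only [D3_eq, Pi.add_apply, Pi.smul_apply, smul_eq_mul]; ring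
    rw [h4, hD] at h3
    apply mul_right_cancel₀ hD0
    rw [← h3]; ring
  have hnorm : (α * a) * (α * a) ^ q = 1 := by
    have h3 := hyiso (nl v (nl v x)) x
    have e1 : nl u (nl u (nl u z)) = 0 := nl_cube hu z
    have e2 := herm_nl hF e1 z
    have e3 := herm_nl hF e1 (nl u z)
    rw [hynl, hynl, h2, hαβγ, herm_smul_left, herm_add_right hF, herm_add_right hF,
      herm_smul_right, herm_smul_right, herm_smul_right, e2, e3, mul_zero, mul_zero, add_zero,
      add_zero, hh] at h3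
    apply mul_right_cancel₀ hh0
    rw [mul_pow, one_mul]
    linear_combination h3
  set ζ := α * a with hζ
  have hζ0 : ζ ≠ 0 := by
    intro h
    rw [h, zero_mul] at hnorm
    exact zero_ne_one hnorm
  have hiso : ∀ s t, hermForm 3 F q ((ζ⁻¹ • y) *ᵥ s) ((ζ⁻¹ • y) *ᵥ t) = hermForm 3 F q s t := by
    intro s t
    rw [Matrix.smul_mulVec, Matrix.smul_mulVec, herm_smul_left, herm_smul_right, hyiso,
      ← mul_assoc, inv_pow, ← mul_inv, hnorm, inv_one, one_mul]
  have hd1 : (ζ⁻¹ • y).det = 1 := by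
    rw [Matrix.det_smul, hdet, Fintype.card_fin, inv_pow, inv_mul_cancel₀ (pow_ne_zero _ hζ0)]
  refine ⟨mk (ζ⁻¹ • y) hd1 hiso, ?_⟩
  rw [mul_inv_eq_iff_eq_mul]
  apply ext_act
  intro w
  rw [act_mul, act_mul, act_mk, act_mk, Matrix.smul_mulVec, Matrix.smul_mulVec, act_smul, hyact]

omit [Fintype F] in
/-- An element of `SU_3(q)` fixing the line of an isotropic vector acts on the orthogonal
complement of the vector. -/
theorem act_perp_of_eigen {k : SU 3 F q} {f w x : Fin 3 → F} {l : F}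
    (hl : l ≠ 0) (hkf : act k f = l • f) (hff : hermForm 3 F q f f = 0)
    (hwf : hermForm 3 F q w f = 0) (hxf : hermForm 3 F q x f ≠ 0) (hD : D3 f w x ≠ 0) :
    ∃ c : F, act k w = (l⁻¹ * l ^ q) • w + c • f := by
  have hlq : l ^ q ≠ 0 := pow_ne_zero _ hl
  obtain ⟨a, b, c, hw⟩ := exists_comb hD (act k w)
  obtain ⟨a', b', c', hx⟩ := exists_comb hD (act k x)
  have h1 := herm_act k w f
  rw [hkf, herm_smul_right, hwf, hw, herm_add_left, herm_add_left, herm_smul_left, herm_smul_left,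
    herm_smul_left, hff, hwf, mul_zero, mul_zero, add_zero, zero_add] at h1
  have hc : c = 0 :=
    (mul_eq_zero.1 ((mul_eq_zero.1 h1).resolve_left hlq)).resolve_right hxf
  have h2 := herm_act k x f
  rw [hkf, herm_smul_right, hx, herm_add_left, herm_add_left, herm_smul_left, herm_smul_left,
    herm_smul_left, hff, hwf, mul_zero, mul_zero, add_zero, zero_add] at h2
  have hc' : l ^ q * c' = 1 := by
    apply mul_right_cancel₀ hxf
    linear_combination h2
  have h3 := D3_act k f w x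
  rw [hkf, hw, hx, hc] at h3
  have h4 : D3 (l • f) (a • f + b • w + (0 : F) • x) (a' • f + b' • w + c' • x) =
      l * b * c' * D3 f w x := by
    simp only [D3_eq, Pi.add_apply, Pi.smul_apply, smul_eq_mul]; ring
  rw [h4] at h3
  have h5 : l * b * c' = 1 := by
    apply mul_right_cancel₀ hD
    rw [h3, one_mul]
  refine ⟨a, ?_⟩
  rw [hw, hc]
  have hb : b = l⁻¹ * l ^ q := by
    field_simp
    linear_combination l ^ q * h5 - l * b * hc'
  rw [hb]
  module

end Cfsg.Agent.H108.Three
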