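import Cfsg.Agent.H108.ThreeFull

/-!
# `SU_3(q)`: the models and the conjugacy of Siegel transformations (helper108)
-/

set_option autoImplicit false
set_option linter.unusedSimpArgs false

namespace Cfsg.Agent.H108.Three

open Cfsg Module Matrix Cfsg.Agent.LieClassical.HermBasic Cfsg.Agent.ClassicalGeometry.UnitTransv
open Cfsg.Agent.H186 Cfsg.Agent.ClassicalGeometry.HermOrtho Cfsg.Agent.H108.Model
open Cfsg.Agent.H108.FullTr Cfsg.Agent.H108.FieldEl Cfsg.Agent.H108.Gen

variable {F : Type*} [Field F] {q : ℕ}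

theorem cube_rel {v : SU 3 F q} (hv : IsReg (mat v)) (x : Fin 3 → F) :
    act v (act v (act v x)) = (3 : F) • act v (act v x) - (3 : F) • act v x + x := by
  have h := nl_cube hv x
  simp only [nl, act_sub] at h
  have h2 : act v (act v (act v x)) = (act v (act v (act v x)) - act v (act v x) -
      (act v (act v x) - act v x) - (act v (act v x) - act v x - (act v x - x))) +
      ((3 : F) • act v (act v x) - (3 : F) • act v x + x) := by module
  rw [h2, h, zero_add]

theorem inv_rel {v : SU 3 F q} (hv : IsReg (mat v)) (x : Fin 3 → F) :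
    act v⁻¹ x = act v (act v x) - (3 : F) • act v x + (3 : F) • x := by
  have h := cube_rel hv (act v⁻¹ x)
  rw [act_act_inv] at h
  rw [h]
  module

variable [Fintype F]

omit [Fintype F] in
theorem herm_inv_left (v : SU 3 F q) (x y : Fin 3 → F) :
    hermForm 3 F q (act v⁻¹ x) y = hermForm 3 F q x (act v y) := by
  rw [← herm_act v, act_act_inv]

/-- The second Toeplitz number. -/
theorem toeplitz_two (hF : Fintype.card F = q ^ 2) {v : SU 3 F q} (hv : IsReg (mat v))
    {f : Fin 3 → F} {η : F} (hff : hermForm 3 F q f f = 0)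
    (h1 : hermForm 3 F q (act v f) f = η) :
    hermForm 3 F q (act v (act v f)) f = 3 * η + η ^ q := by
  have h2 := herm_inv_left v f f
  rw [inv_rel hv, herm_add_left, herm_sub_left, herm_smul_left, herm_smul_left, hff,
    herm_swap hF (act v f) f, h1] at h2
  linear_combination h2

theorem gram_D3 (hF : Fintype.card F = q ^ 2) (x y z : Fin 3 → F) :
    D3 x y z * (D3 x y z) ^ q =
      hermForm 3 F q x x * hermForm 3 F q y y * hermForm 3 F q z z -
      hermForm 3 F q x x * hermForm 3 F q y z * hermForm 3 F q z y -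
      hermForm 3 F q x y * hermForm 3 F q y x * hermForm 3 F q z z +
      hermForm 3 F q x y * hermForm 3 F q y z * hermForm 3 F q z x +
      hermForm 3 F q x z * hermForm 3 F q y x * hermForm 3 F q z y -
      hermForm 3 F q x z * hermForm 3 F q y y * hermForm 3 F q z x := by
  simp only [D3_eq, herm_def, Fin.sum_univ_three, add_pow_q hF, sub_pow_q hF, mul_pow]
  ring

/-- Nonzero Toeplitz determinant gives a basis. -/
theorem D3_ne_zero (hF : Fintype.card F = q ^ 2) {v : SU 3 F q} (hv : IsReg (mat v))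
    {f : Fin 3 → F} {η : F} (hff : hermForm 3 F q f f = 0)
    (h1 : hermForm 3 F q (act v f) f = η) (hT : η + η ^ q ≠ 0) :
    D3 f (act v f) (act v (act v f)) ≠ 0 := by
  intro h
  have h2 := gram_D3 hF f (act v f) (act v (act v f))
  rw [h, zero_mul] at h2
  have e1 : hermForm 3 F q f (act v f) = η ^ q := by rw [herm_swap hF, h1]
  have e2 := toeplitz_two hF hv hff h1
  have e3 : hermForm 3 F q f (act v (act v f)) = 3 * η ^ q + η := by
    rw [herm_swap hF, e2, add_pow_q hF, mul_pow, ofNat_pow_q hF 3, pow_q_pow_q hF]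
  simp only [herm_act, hff, h1, e1, e2, e3] at h2
  apply hT
  have h3 : (η + η ^ q) ^ 3 = 0 := by linear_combination -h2
  exact pow_eq_zero_iff (three_ne_zero) |>.1 h3

/-- The model in dimension three. -/
theorem exists_model_three (hF : Fintype.card F = q ^ 2) {C : F} (hC : C + C ^ q ≠ 0) :
    ∃ (u : SU 3 F q) (x e : Fin 3 → F), IsReg (mat u) ∧ act u e = e ∧ hermForm 3 F q x e ≠ 0 ∧
      hermForm 3 F q x x = 0 ∧ hermForm 3 F q (act u x) x = C := by
  obtain ⟨θ, hθ⟩ := exists_not_fixed hF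
  set θ' := θ ^ q with hθ'
  have hθθ : θ' ^ q = θ := pow_q_pow_q hF θ
  have hδ : θ - θ' ≠ 0 := sub_ne_zero.2 (Ne.symm hθ)
  set C' := C ^ q with hC'
  have hCC : C' ^ q = C := pow_q_pow_q hF C
  have hδ' : (θ' - θ) ^ 2 = (θ - θ') ^ 2 := by ring
  have comm : ∀ (x : F) (k : ℕ), (x ^ k) ^ q = (x ^ q) ^ k := fun x k => by
    rw [← pow_mul, ← pow_mul, mul_comm]
  have hδ4 : ((θ - θ') ^ 2) ^ q = (θ - θ') ^ 2 := by
    rw [comm, sub_pow_q hF, ← hθ', hθθ, hδ']
  set t0 := (θ ^ 2 * C' + θ' ^ 2 * C) / (θ - θ') ^ 2 with ht0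
  set t1 := (-(θ' * C + θ * C')) / (θ - θ') ^ 2 with ht1
  set t2 := (C + C') / (θ - θ') ^ 2 with ht2
  have h0 : t0 ^ q = t0 := by
    rw [ht0, div_pow, hδ4]
    congr 1
    simp only [sub_pow_q hF, add_pow_q hF, mul_pow, comm, ← hθ', hθθ, ← hC', hCC]
    ring
  have h1 : t1 ^ q = t1 := by
    rw [ht1, div_pow, hδ4]
    congr 1
    simp only [sub_pow_q hF, add_pow_q hF, neg_pow_q hF, mul_pow, comm, ← hθ', hθθ, ← hC', hCC]
    ring
  have h2 : t2 ^ q = t2 := by
    rw [ht2, div_pow, hδ4]
    congr 1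
    simp only [sub_pow_q hF, add_pow_q hF, mul_pow, comm, ← hθ', hθθ, ← hC', hCC]
    ring
  have ht2n : t2 ≠ 0 := div_ne_zero hC (pow_ne_zero _ hδ)
  obtain ⟨τ, e0, e1, e2, hτ, hτ0⟩ : ∃ τ : ℕ → F, τ 0 = t0 ∧ τ 1 = t1 ∧ τ 2 = t2 ∧
      (∀ k, τ k ^ q = τ k) ∧ (∀ k, 3 ≤ k → τ k = 0) := by
    refine ⟨fun k => if k = 0 then t0 else if k = 1 then t1 else if k = 2 then t2 else 0,
      by simp, by simp, by simp, ?_, ?_⟩
    · intro k
      dsimp only
      split_ifs
      · exact h0
      · exact h1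
      · exact h2
      · exact zero_pow_q hF
    · intro k hk
      dsimp only
      rw [if_neg (by omega), if_neg (by omega), if_neg (by omega)]
  have hτn : τ (3 - 1) ≠ 0 := by
    change τ 2 ≠ 0
    rw [e2]; exact ht2n
  obtain ⟨E, v, hE, hsep, hv, hreg⟩ := exists_model hF (n := 3) (by norm_num) τ hτ hτ0 hτn hθ
  have hvE : ∀ k, act v (E k + θ' • E (k + 1)) = E k + θ • E (k + 1) := hv
  have hux : act v (E 0 + θ' • E 1) = E 0 + θ • E 1 := hvE 0
  have hfix := model_fix hτ0 (by norm_num) hE hsep hv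
  refine ⟨v, E 0 + θ' • E 1, E (3 - 1), hreg, hfix, ?_, ?_, ?_⟩
  · rw [herm_add_left, herm_smul_left, hE, hE, hτ0 (1 + (3 - 1)) (by norm_num), mul_zero, add_zero,
      zero_add]
    exact hτn
  · simp only [herm_add_left, herm_add_right hF, herm_smul_left, herm_smul_right, hE, e0, e1, e2,
      hθθ, Nat.reduceAdd, ht0, ht1, ht2]
    field_simp
    ring
  · rw [hux]
    simp only [herm_add_left, herm_add_right hF, herm_smul_left, herm_smul_right, hE, e0, e1, e2,
      hθθ, Nat.reduceAdd, ht0, ht1, ht2]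
    field_simp
    ring

/-- When a Siegel transformation with centre `f` is conjugate to `v`. -/
theorem conj_siegel (hF : Fintype.card F = q ^ 2) {v : SU 3 F q} (hv : IsReg (mat v))
    {f : Fin 3 → F} {η : F} (hff : hermForm 3 F q f f = 0)
    (h1 : hermForm 3 F q (act v f) f = η) (hT : η + η ^ q ≠ 0) {w : Fin 3 → F} {μ : F}
    (hwf : hermForm 3 F q w f = 0) (hμ : μ + μ ^ q + hermForm 3 F q w w = 0) {a b : F}
    (ha : a ≠ 0) (hb : D3 (act v f) w f = b * D3 f (act v f) (act v (act v f)))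
    (hab : -(η ^ 2 * hermForm 3 F q w w * b) = a ^ 3)
    (hN : -(η * η ^ q * hermForm 3 F q w w) = a * a ^ q * (η + η ^ q)) :
    ∃ g : SU 3 F q, g * v * g⁻¹ = siegel hF f w μ hff hwf hμ := by
  set u := siegel hF f w μ hff hwf hμ with hu
  have hact : ∀ x, act u x = x + hermForm 3 F q x f • w +
      (μ * hermForm 3 F q x f - hermForm 3 F q x w) • f := act_siegel hF hff hwf hμ
  have hfw := herm_eq_zero_swap hF hwf
  have hnl : ∀ x, nl u x = hermForm 3 F q x f • w +
      (μ * hermForm 3 F q x f - hermForm 3 F q x w) • f := by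
    intro x
    rw [nl, hact]
    module
  have hnl2 : ∀ x, nl u (nl u x) = (-(hermForm 3 F q x f * hermForm 3 F q w w)) • f := by
    intro x
    rw [hnl x, hnl]
    simp only [herm_add_left, herm_smul_left, hff, hwf, hfw]
    module
  have hnl3 : ∀ x, nl u (nl u (nl u x)) = 0 := by
    intro x
    rw [hnl2, hnl]
    simp only [herm_add_left, herm_smul_left, hff, hwf, hfw]
    module
  have hD := D3_ne_zero hF hv hff h1 hT
  have hDv : D3 f (nl v f) (nl v (nl v f)) = D3 f (act v f) (act v (act v f)) := by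
    simp only [nl, act_sub, D3_eq, Pi.sub_apply]
    ring
  have hDu : D3 (act v f) (nl u (act v f)) (nl u (nl u (act v f))) =
      a ^ 3 * D3 f (nl v f) (nl v (nl v f)) := by
    rw [hDv, hnl2, hnl, h1, ← hab]
    have h2 : D3 (act v f) (η • w + (μ * η - hermForm 3 F q (act v f) w) • f)
        (-(η * hermForm 3 F q w w) • f) =
        -(η ^ 2 * hermForm 3 F q w w) * D3 (act v f) w f := by
      simp only [D3_eq, Pi.add_apply, Pi.smul_apply, smul_eq_mul]
      ring
    rw [h2, hb]
    ring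
  have hregu : IsReg (mat u) := by
    refine isReg_of_D3 hnl3 (z := act v f) ?_
    rw [hDu, hDv]
    exact mul_ne_zero (pow_ne_zero _ ha) hD
  have hhv : hermForm 3 F q (nl v (nl v f)) f = η + η ^ q := by
    simp only [nl, act_sub, herm_sub_left, hff, h1, toeplitz_two hF hv hff h1]
    ring
  refine exists_conj_three hF hv hregu (x := f) (z := act v f) ha ?_ ?_ hDu ?_
  · rw [hDv]; exact hD
  · rw [hhv]; exact hT
  · rw [hhv, hnl2, h1, herm_smul_left, ← hN, herm_swap hF (act v f) f, h1]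
    ring

end Cfsg.Agent.H108.Three
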