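import Cfsg.Agent.H108.ThreeConj

/-!
# `SU_3(q)` is generated by two conjugate regular unipotent elements, `q ≠ 2, 5, 8` (helper108)
-/

set_option autoImplicit false
set_option linter.unusedSimpArgs false

namespace Cfsg.Agent.H108.Three

open Cfsg Module Matrix Cfsg.Agent.LieClassical.HermBasic Cfsg.Agent.ClassicalGeometry.UnitTransv
open Cfsg.Agent.H186 Cfsg.Agent.ClassicalGeometry.HermOrtho Cfsg.Agent.H108.Model
open Cfsg.Agent.H108.FullTr Cfsg.Agent.H108.FieldEl Cfsg.Agent.H108.Gen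
open Cfsg.Agent.H108.FieldThree

variable {F : Type*} [Field F] [Fintype F] {q : ℕ}

/-- From one full vector to the whole group. -/
theorem top_three (hF : Fintype.card F = q ^ 2) (hq : 3 ≤ q)
    {H : Subgroup (SU 3 F q)} {v : SU 3 F q} (hvH : v ∈ H) (hv : IsReg (mat v))
    {f e : Fin 3 → F} (he : act v e = e) (hfe : hermForm 3 F q f e ≠ 0) (hfull : Full hF H f)
    {η : F} (h1 : hermForm 3 F q (act v f) f = η) (hT : η + η ^ q ≠ 0) : H = ⊤ := by
  have hη : η ≠ 0 := by
    rintro rfl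
    rw [zero_pow_q hF, add_zero] at hT
    exact hT rfl
  refine top_of_full_vec hF (le_refl 3) hq hvH hv he hfe hfull (by rw [h1]; exact hη) ?_
  rw [toeplitz_two hF hv hfull.1 h1, herm_swap hF (act v f) f, h1]
  have : η ^ q * η ^ q * (3 * η + η ^ q) + (η ^ q * η ^ q * (3 * η + η ^ q)) ^ q =
      (η + η ^ q) ^ 3 := by
    simp only [mul_pow, add_pow_q hF, pow_q_pow_q hF, ofNat_pow_q hF 3]
    ring
  rw [this]
  exact pow_ne_zero _ hT

/-- The main case. -/
theorem main_three (hF : Fintype.card F = q ^ 2) (hq : 3 ≤ q) (h5 : q ≠ 5) (h8 : q ≠ 8) :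
    ∃ v g : SU 3 F q, IsReg (mat v) ∧
      Subgroup.closure ({v, g * v * g⁻¹} : Set (SU 3 F q)) = ⊤ := by
  obtain ⟨κ, hκ, hκ1, hcl⟩ := exists_kappa hF hq h5 h8
  set κ' := κ ^ q with hκ'
  have hκκ : κ' ^ q = κ := pow_q_pow_q hF κ
  have hκ0 : κ ≠ 0 := by
    rintro rfl
    rw [zero_mul] at hκ
    exact zero_ne_one hκ
  have hκ'0 : κ' ≠ 0 := pow_ne_zero _ hκ0
  have hκ'1 : 1 + κ' ≠ 0 := by
    intro h
    apply hκ1
    have : κ' = -1 := by linear_combination h
    rw [← hκκ, this, neg_pow_q hF, one_pow]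
  have hκ11 : 1 + κ ≠ 0 := fun h => hκ1 (by linear_combination h)
  obtain ⟨η, hη⟩ : ∃ η : F, η = 1 + κ' := ⟨_, rfl⟩
  obtain ⟨η', hη'⟩ : ∃ η' : F, η' = 1 + κ := ⟨_, rfl⟩
  have hηq : η ^ q = η' := by rw [hη, add_pow_q hF, one_pow, hκκ, hη']
  have hη'q : η' ^ q = η := by rw [← hηq, pow_q_pow_q hF]
  have hη0 : η ≠ 0 := by rw [hη]; exact hκ'1
  have hη'0 : η' ≠ 0 := by rw [hη']; exact hκ11
  have hTe : η + η' = η * η' := by rw [hη, hη']; linear_combination -hκ
  have hT : η + η ^ q ≠ 0 := by rw [hηq, hTe]; exact mul_ne_zero hη0 hη'0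
  have hκη : κ' * η' = η := by rw [hη, hη']; linear_combination hκ
  obtain ⟨v, f, e, hv, hve, hfe, hff, h1⟩ := exists_model_three hF hT
  have h1' : hermForm 3 F q f (act v f) = η' := by rw [herm_swap hF, h1, hηq]
  have h2 := toeplitz_two hF hv hff h1
  rw [hηq] at h2
  have h2' : hermForm 3 F q f (act v (act v f)) = 3 * η' + η := by
    rw [herm_swap hF, h2, add_pow_q hF, mul_pow, ofNat_pow_q hF 3, hηq, hη'q]
  have hm1 : hermForm 3 F q (act v⁻¹ f) f = η' := by rw [herm_inv_left, h1']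
  have hm2 : hermForm 3 F q (act v⁻¹ f) (act v f) = 3 * η' + η := by rw [herm_inv_left, h2']
  have hm2' : hermForm 3 F q (act v f) (act v⁻¹ f) = 3 * η + η' := by
    rw [herm_swap hF, hm2, add_pow_q hF, mul_pow, ofNat_pow_q hF 3, hηq, hη'q]
  have hm3 : hermForm 3 F q (act v⁻¹ f) (act v⁻¹ f) = 0 := by rw [herm_act, hff]
  have h11 : hermForm 3 F q (act v f) (act v f) = 0 := by rw [herm_act, hff]
  set w : Fin 3 → F := η'⁻¹ • act v⁻¹ f - η⁻¹ • act v f with hw
  have hwf : hermForm 3 F q w f = 0 := by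
    rw [hw, herm_sub_left, herm_smul_left, herm_smul_left, hm1, h1, inv_mul_cancel₀ hη'0,
      inv_mul_cancel₀ hη0, sub_self]
  have hww : hermForm 3 F q w w = -((3 * η' + η) / η' ^ 2) - (3 * η + η') / η ^ 2 := by
    rw [hw]
    simp only [herm_sub_left, herm_sub_right hF, herm_smul_left, herm_smul_right, inv_pow, hηq,
      hη'q, hm2, hm2', hm3, h11]
    field_simp
    ring
  have hμq : ((3 * η + η') / η ^ 2) ^ q = (3 * η' + η) / η' ^ 2 := by
    rw [div_pow, add_pow_q hF, mul_pow, ofNat_pow_q hF 3, hηq, hη'q, ← pow_mul, mul_comm 2 q,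
      pow_mul, hηq]
  have hμ : (3 * η + η') / η ^ 2 + ((3 * η + η') / η ^ 2) ^ q + hermForm 3 F q w w = 0 := by
    rw [hww, hμq]; ring
  have hww' : hermForm 3 F q w w = -((η + η') ^ 3 / (η * η') ^ 2) := by
    rw [hww]
    field_simp
    ring
  have hwD : D3 (act v f) w f = η'⁻¹ * D3 f (act v f) (act v (act v f)) := by
    rw [hw, inv_rel hv]
    simp only [D3_eq, Pi.add_apply, Pi.sub_apply, Pi.smul_apply, smul_eq_mul]
    ring
  have hT' : η + η' ≠ 0 := by rw [← hηq]; exact hT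
  obtain ⟨g, hg⟩ := conj_siegel hF hv hff h1 hT hwf hμ (a := (η + η') / η') (b := η'⁻¹)
    (div_ne_zero hT' hη'0) hwD
    (by
      rw [hww']
      field_simp)
    (by
      rw [hww', hηq, div_pow, add_pow_q hF, hηq, hη'q]
      field_simp
      ring)
  refine ⟨v, g, hv, ?_⟩
  rw [hg]
  set u := siegel hF f w ((3 * η + η') / η ^ 2) hff hwf hμ with hu
  have hact : ∀ x, act u x = x + hermForm 3 F q x f • w +
      ((3 * η + η') / η ^ 2 * hermForm 3 F q x f - hermForm 3 F q x w) • f :=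
    act_siegel hF hff hwf hμ
  set H := Subgroup.closure ({v, u} : Set (SU 3 F q)) with hH
  have hvH : v ∈ H := Subgroup.subset_closure (by simp)
  have huH : u ∈ H := Subgroup.subset_closure (by simp)
  have hkH : v * (u * v) ∈ H := mul_mem hvH (mul_mem huH hvH)
  have huv : act u (act v f) = κ' • act v⁻¹ f := by
    have h3 : hermForm 3 F q (act v f) w = (3 * η + η') / η := by
      rw [hw, herm_sub_right hF, herm_smul_right, herm_smul_right, hm2', h11, inv_pow, hη'q]
      field_simp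
      ring
    have h4 : κ' = η * η'⁻¹ := by rw [← hκη]; field_simp
    rw [hact, h1, h3, hw, h4]
    have h5 : (3 * η + η') / η ^ 2 * η - (3 * η + η') / η = 0 := by
      field_simp
      ring
    rw [h5, zero_smul, add_zero, smul_sub, smul_smul, smul_smul, mul_inv_cancel₀ hη0]
    module
  have hkf : act (v * (u * v)) f = κ' • f := by
    rw [act_mul, act_mul, huv, act_smul, act_act_inv]
  have hD := D3_ne_zero hF hv hff h1 hT
  obtain ⟨c, hkw⟩ := act_perp_of_eigen (k := v * (u * v)) (x := act v f) hκ'0 hkf hff hwf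
    (by rw [h1]; exact hη0) (by
      have : D3 f w (act v f) = -(η'⁻¹ * D3 f (act v f) (act v (act v f))) := by
        rw [← hwD]
        simp only [D3_eq]
        ring
      rw [this]
      exact neg_ne_zero.2 (mul_ne_zero (inv_ne_zero hη'0) hD))
  have hone : Has H f w 1 := by
    refine ⟨u, huH, (3 * η + η') / η ^ 2, fun x => ?_⟩
    rw [one_smul, hact]
  have hall : ∀ a, Has H f w a := by
    refine Has.all hF hff hwf hone (ρ := κ ^ 3) ?_ hcl
    intro a ha
    have h6 := ha.mul hF hkH hkf hkw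
    have h7 : κ' ^ q * (κ'⁻¹ * κ' ^ q) * a = κ ^ 3 * a := by
      rw [hκκ]
      have : κ'⁻¹ = κ := inv_eq_of_mul_eq_one_left hκ
      rw [this]; ring
    rw [h7] at h6
    exact h6
  have hwwn : hermForm 3 F q w w ≠ 0 := by
    rw [hww']
    exact neg_ne_zero.2 (div_ne_zero (pow_ne_zero _ hT') (pow_ne_zero _ (mul_ne_zero hη0 hη'0)))
  exact top_three hF hq hvH hv hve hfe (full_of_has_all hF hff hwf hwwn hall) h1 hT

end Cfsg.Agent.H108.Three
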