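import Cfsg.Agent.H108.ThreeMain

/-!
# `SU_3(5)` is generated by two conjugate regular unipotent elements (helper108)
-/

set_option autoImplicit false
set_option linter.unusedSimpArgs false

namespace Cfsg.Agent.H108.Three

open Cfsg Module Matrix Cfsg.Agent.LieClassical.HermBasic Cfsg.Agent.ClassicalGeometry.UnitTransv
open Cfsg.Agent.H186 Cfsg.Agent.ClassicalGeometry.HermOrtho Cfsg.Agent.H108.Model
open Cfsg.Agent.H108.FullTr Cfsg.Agent.H108.FieldEl Cfsg.Agent.H108.Gen
open Cfsg.Agent.H108.FieldThree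

variable {F : Type*} [Field F] [Fintype F]

theorem facts_five (hF : Fintype.card F = 5 ^ 2) :
    (5 : F) = 0 ∧ ∃ δ : F, δ ^ 2 = 3 ∧ δ ^ 5 = -δ ∧ δ ≠ 0 := by
  have h5 : (5 : F) = 0 := by
    have h := FiniteField.cast_card_eq_zero F
    rw [hF] at h
    have h4 : (5 : F) ^ 2 = 0 := by exact_mod_cast h
    exact pow_eq_zero_iff (two_ne_zero) |>.1 h4
  refine ⟨h5, ?_⟩
  obtain ⟨θ, hθ⟩ := exists_not_fixed hF
  have h1 : (θ ^ 5) ^ 5 = θ := pow_q_pow_q hF θ
  obtain ⟨z, hz⟩ : ∃ z : F, z = θ - θ ^ 5 := ⟨_, rfl⟩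
  have hz0 : z ≠ 0 := by rw [hz]; exact sub_ne_zero.2 (Ne.symm hθ)
  have hz5 : z ^ 5 = -z := by
    rw [hz, sub_pow_q hF, h1]; ring
  have hz4 : z ^ 4 = -1 := by
    apply mul_right_cancel₀ hz0
    linear_combination hz5
  have hz2 : (z ^ 2 - 2) * (z ^ 2 - 3) = 0 := by
    linear_combination hz4 + (1 - z ^ 2) * h5
  rcases mul_eq_zero.1 hz2 with h | h
  · refine ⟨2 * z, ?_, ?_, ?_⟩
    · linear_combination 4 * h + h5
    · linear_combination 32 * hz5 - 6 * z * h5
    · have h2 : (2 : F) ≠ 0 := by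
        intro h2
        exact one_ne_zero (α := F) (by linear_combination h5 - 2 * h2)
      exact mul_ne_zero h2 hz0
  · exact ⟨z, by linear_combination h, hz5, hz0⟩

set_option maxHeartbeats 2000000 in
/-- The case `q = 5`. -/
theorem main_five (hF : Fintype.card F = 5 ^ 2) :
    ∃ v g : SU 3 F 5, IsReg (mat v) ∧
      Subgroup.closure ({v, g * v * g⁻¹} : Set (SU 3 F 5)) = ⊤ := by
  obtain ⟨h5, δ, hδ, hδ5, hδ0⟩ := facts_five hF
  have q3 : (3 : F) ^ 5 = 3 := ofNat_pow_q hF 3
  have q2 : (2 : F) ^ 5 = 2 := ofNat_pow_q hF 2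
  have conjq : ∀ a b : F, a ^ 5 = a → b ^ 5 = b → (a + b * δ) ^ 5 = a - b * δ := by
    intro a b ha hb
    rw [add_pow_q hF, mul_pow, ha, hb, hδ5]; ring
  have hm1 : (-1 : F) ^ 5 = -1 := by rw [neg_pow_q hF, one_pow]
  have h1q : (1 : F) ^ 5 = 1 := one_pow 5
  obtain ⟨η, hη⟩ : ∃ η : F, η = 3 + 3 * δ := ⟨_, rfl⟩
  have hηq : η ^ 5 = 3 - 3 * δ := by rw [hη]; exact conjq 3 3 q3 q3
  have hT1 : η + η ^ 5 = 1 := by rw [hηq, hη]; linear_combination h5
  have hT : η + η ^ 5 ≠ 0 := by rw [hT1]; exact one_ne_zero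
  obtain ⟨v, f, e, hv, hve, hfe, hff, h1⟩ := exists_model_three hF hT
  have h1' : hermForm 3 F 5 f (act v f) = 3 - 3 * δ := by rw [herm_swap hF, h1, hηq]
  have h2 : hermForm 3 F 5 (act v (act v f)) f = 2 + δ := by
    rw [toeplitz_two hF hv hff h1, hηq, hη]
    linear_combination (2 + δ) * h5
  have h2' : hermForm 3 F 5 f (act v (act v f)) = 2 - δ := by
    rw [herm_swap hF, h2]
    have := conjq 2 1 q2 h1q
    rw [one_mul] at this
    exact this
  have h11 : hermForm 3 F 5 (act v f) (act v f) = 0 := by rw [herm_act, hff]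
  have h22 : hermForm 3 F 5 (act v (act v f)) (act v (act v f)) = 0 := by
    rw [herm_act, herm_act, hff]
  have h21 : hermForm 3 F 5 (act v (act v f)) (act v f) = η := by rw [herm_act, h1]
  have h12 : hermForm 3 F 5 (act v f) (act v (act v f)) = 3 - 3 * δ := by rw [herm_act, h1']
  have hsq : (2 - δ) ^ 5 = 2 + δ := by
    have := conjq 2 (-1) q2 hm1
    linear_combination this
  have htq : (1 - δ) ^ 5 = 1 + δ := by
    have := conjq 1 (-1) h1q hm1
    linear_combination this
  set w : Fin 3 → F := (2 - δ) • act v (act v f) + (1 - δ) • act v f with hw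
  have hwf : hermForm 3 F 5 w f = 0 := by
    rw [hw, herm_add_left, herm_smul_left, herm_smul_left, h2, h1, hη]
    grind
  have hww : hermForm 3 F 5 w w = 2 := by
    rw [hw]
    simp only [herm_add_left, herm_add_right hF, herm_smul_left, herm_smul_right, h11, h22, h12,
      h21, hsq, htq, hη]
    grind
  have hμ : (-1 : F) + (-1) ^ 5 + hermForm 3 F 5 w w = 0 := by
    rw [hww]; ring
  have hwD : D3 (act v f) w f = (2 - δ) * D3 f (act v f) (act v (act v f)) := by
    rw [hw]
    simp only [D3_eq, Pi.add_apply, Pi.sub_apply, Pi.smul_apply, smul_eq_mul]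
    ring
  obtain ⟨g, hg⟩ := conj_siegel hF hv hff h1 hT hwf hμ (a := -1) (b := 2 - δ)
    (neg_ne_zero.2 one_ne_zero) hwD
    (by
      rw [hww, hη]
      grind)
    (by
      rw [hww, hT1, hηq, hη]
      grind)
  refine ⟨v, g, hv, ?_⟩
  rw [hg]
  set u := siegel hF f w (-1) hff hwf hμ with hu
  have hact : ∀ x, act u x = x + hermForm 3 F 5 x f • w +
      (-1 * hermForm 3 F 5 x f - hermForm 3 F 5 x w) • f :=
    act_siegel hF hff hwf hμ
  set H := Subgroup.closure ({v, u} : Set (SU 3 F 5)) with hH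
  have hvH : v ∈ H := Subgroup.subset_closure (by simp)
  have huH : u ∈ H := Subgroup.subset_closure (by simp)
  obtain ⟨l, hl⟩ : ∃ l : F, l = 3 * δ - 3 := ⟨_, rfl⟩
  have hlq : l ^ 5 = -3 * δ - 3 := by
    have h3 : (-3 : F) ^ 5 = -3 := by rw [neg_pow_q hF, q3]
    have := conjq (-3) 3 h3 q3
    rw [hl]
    linear_combination this
  have hN : l * l ^ 5 = 2 := by
    rw [hlq, hl]
    grind
  have hl0 : l ≠ 0 := by
    rintro rfl
    rw [zero_mul] at hN
    exact one_ne_zero (α := F) (by linear_combination h5 + 2 * hN)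
  have hinv : l⁻¹ = δ + 1 := by
    apply inv_eq_of_mul_eq_one_left
    rw [hl]
    grind
  have hkH : v⁻¹ * (v⁻¹ * (u * v)) ∈ H :=
    mul_mem (inv_mem hvH) (mul_mem (inv_mem hvH) (mul_mem huH hvH))
  have huv : act u (act v f) = l • act v (act v f) := by
    have h3 : hermForm 3 F 5 (act v f) w = -3 - 3 * δ := by
      rw [hw, herm_add_right hF, herm_smul_right, herm_smul_right, h12, h11, hsq]
      grind
    rw [hact, h1, h3, hw, hl, hη]
    match_scalars <;> grind
  have hkf : act (v⁻¹ * (v⁻¹ * (u * v))) f = l • f := by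
    rw [act_mul, act_mul, act_mul, huv, act_smul, act_smul, act_inv_act, act_inv_act]
  have hD := D3_ne_zero hF hv hff h1 hT
  have hη0 : η ≠ 0 := by
    rintro rfl
    rw [zero_pow_q hF, add_zero] at hT
    exact hT rfl
  obtain ⟨c, hkw⟩ := act_perp_of_eigen (k := v⁻¹ * (v⁻¹ * (u * v))) (x := act v f) hl0 hkf hff hwf
    (by rw [h1]; exact hη0) (by
      have : D3 f w (act v f) = -((2 - δ) * D3 f (act v f) (act v (act v f))) := by
        rw [← hwD]
        simp only [D3_eq]
        ring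
      rw [this]
      have hs0 : (2 - δ) ≠ 0 := by
        intro h
        have : (2 - δ) * (2 + δ) = 1 := by linear_combination -hδ
        rw [h, zero_mul] at this
        exact zero_ne_one this
      exact neg_ne_zero.2 (mul_ne_zero hs0 hD))
  have hone : Has H f w 1 := by
    refine ⟨u, huH, -1, fun x => ?_⟩
    rw [one_smul, hact]
  have hrho : Has H f w (-δ) := by
    have h6 := hone.mul hF hkH hkf hkw
    have h7 : l ^ 5 * (l⁻¹ * l ^ 5) * 1 = -δ := by
      rw [hlq, hinv]
      grind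
    rw [h7] at h6
    exact h6
  have hc : (-δ) + (-δ) ^ 5 = 0 := by
    rw [neg_pow_q hF, hδ5]; ring
  have hmem := hone.comm hF hff hwf hrho hc (by
    rw [hww, neg_pow_q hF, hδ5, one_pow]
    linear_combination -δ * h5)
  have hfull : Full hF H f := by
    refine full_of_gen hF hff hc (neg_ne_zero.2 hδ0) hmem hkH hkf ?_
    intro x hx hx0
    rw [hN]
    have hx4 : (x - 1) * ((x - 2) * ((x - 4) * (x - 3))) = 0 := by
      apply mul_right_cancel₀ hx0
      linear_combination hx + (-2 * x ^ 4 + 7 * x ^ 3 - 10 * x ^ 2 + 5 * x) * h5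
    rcases mul_eq_zero.1 hx4 with h | h
    · exact ⟨0, by linear_combination h⟩
    rcases mul_eq_zero.1 h with h | h
    · exact ⟨1, by linear_combination h⟩
    rcases mul_eq_zero.1 h with h | h
    · exact ⟨2, by linear_combination h⟩
    · exact ⟨3, by linear_combination h - h5⟩
  exact top_three hF (by norm_num) hvH hv hve hfe hfull h1 hT

end Cfsg.Agent.H108.Three
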