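import Cfsg.Agent.H108.ThreeMain

/-!
# `SU_3(8)` is generated by two conjugate regular unipotent elements (helper108)
-/

set_option autoImplicit false
set_option linter.unusedSimpArgs false

namespace Cfsg.Agent.H108.Three

open Cfsg Module Matrix Cfsg.Agent.LieClassical.HermBasic Cfsg.Agent.ClassicalGeometry.UnitTransv
open Cfsg.Agent.H186 Cfsg.Agent.ClassicalGeometry.HermOrtho Cfsg.Agent.H108.Model
open Cfsg.Agent.H108.FullTr Cfsg.Agent.H108.FieldEl Cfsg.Agent.H108.Gen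
open Cfsg.Agent.H108.FieldThree

variable {F : Type*} [Field F] [Fintype F]

theorem facts_eight (hF : Fintype.card F = 8 ^ 2) :
    (2 : F) = 0 ∧ ∃ ω β : F, ω ^ 2 = ω + 1 ∧ ω ^ 8 = ω + 1 ∧ β ^ 3 = β + 1 ∧ β ^ 8 = β := by
  have h2 : (2 : F) = 0 := by
    have h := FiniteField.cast_card_eq_zero F
    rw [hF] at h
    have h4 : (2 : F) ^ 6 = 0 := by
      have : ((8 ^ 2 : ℕ) : F) = (2 : F) ^ 6 := by norm_num
      rw [← this]; exact h
    exact pow_eq_zero_iff (by norm_num) |>.1 h4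
  refine ⟨h2, ?_⟩
  obtain ⟨g, hg⟩ := IsCyclic.exists_generator (α := Fˣ)
  have hord : orderOf g = 63 := by
    rw [orderOf_eq_card_of_forall_mem_zpowers hg]
    exact card_units_eq hF
  have h63 : (g : F) ^ 63 = 1 := by
    rw [← Units.val_pow_eq_pow_val, ← hord, pow_orderOf_eq_one, Units.val_one]
  have hne : ∀ k : ℕ, 0 < k → k < 63 → (g : F) ^ k ≠ 1 := by
    intro k hk hk' h
    have h3 : g ^ k = 1 := by
      apply Units.ext
      rw [Units.val_pow_eq_pow_val, h, Units.val_one]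
    have := orderOf_dvd_of_pow_eq_one h3
    rw [hord] at this
    exact absurd (Nat.le_of_dvd hk this) (by omega)
  obtain ⟨ω, hω⟩ : ∃ ω : F, ω = (g : F) ^ 21 := ⟨_, rfl⟩
  have hω3 : ω ^ 3 = 1 := by rw [hω, ← pow_mul, h63]
  have hω1 : ω - 1 ≠ 0 := sub_ne_zero.2 (by rw [hω]; exact hne 21 (by norm_num) (by norm_num))
  have hω2 : ω ^ 2 = ω + 1 := by
    have h3 : ω ^ 2 + ω + 1 = 0 := by
      apply mul_left_cancel₀ hω1
      linear_combination hω3
    linear_combination h3 - (ω + 1) * h2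
  obtain ⟨b, hb⟩ : ∃ b : F, b = (g : F) ^ 9 := ⟨_, rfl⟩
  have hb7 : b ^ 7 = 1 := by rw [hb, ← pow_mul, h63]
  have hb1 : b - 1 ≠ 0 := sub_ne_zero.2 (by rw [hb]; exact hne 9 (by norm_num) (by norm_num))
  have hb0 : b ≠ 0 := by
    rintro rfl
    simp at hb7
  have hω8 : ω ^ 8 = ω + 1 := by
    have h3 : ω ^ 8 = (ω ^ 3) ^ 2 * ω ^ 2 := by ring
    rw [h3, hω3, hω2]; ring
  have key : (b ^ 3 + b + 1) * (b ^ 3 + b ^ 2 + 1) = 0 := by
    apply mul_left_cancel₀ hb1
    grind
  rcases mul_eq_zero.1 key with h | h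
  · refine ⟨ω, b, hω2, hω8, by linear_combination h - (b + 1) * h2, ?_⟩
    calc b ^ 8 = b ^ 7 * b := by ring
      _ = b := by rw [hb7, one_mul]
  · refine ⟨ω, b ^ 6, hω2, hω8, ?_, ?_⟩
    · grind
    · calc (b ^ 6) ^ 8 = (b ^ 7) ^ 6 * b ^ 6 := by ring
        _ = b ^ 6 := by rw [hb7, one_pow, one_mul]

omit [Fintype F] in
theorem split_eight {β x : F} (h2 : (2 : F) = 0) (hβ3 : β ^ 3 = β + 1) (hx : x ^ 8 = x) :
    (x - 1) * ((x - β) * ((x - β ^ 2) * ((x - β ^ 3) * ((x - β ^ 4) *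
        ((x - β ^ 5) * (x - β ^ 6)))))) * x = 0 := by
  have h4 : β ^ 4 = β ^ 2 + β := by linear_combination β * hβ3
  have h5 : β ^ 5 = β ^ 2 + β + 1 := by linear_combination β ^ 2 * hβ3 + hβ3
  have h6 : β ^ 6 = β ^ 2 + 1 := by linear_combination (β ^ 3 + β + 1) * hβ3 + β * h2
  have e1 : (x - β) * (x - β ^ 2) * (x - β ^ 4) = x ^ 3 + x + 1 := by
    rw [h4]
    grind
  have e2 : (x - β ^ 3) * (x - β ^ 5) * (x - β ^ 6) = x ^ 3 + x ^ 2 + 1 := by
    rw [hβ3, h5, h6]
    grind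
  have e3 : (x - 1) * ((x ^ 3 + x + 1) * (x ^ 3 + x ^ 2 + 1)) * x = 0 := by
    linear_combination hx + (x ^ 5 - x ^ 4) * h2
  calc _ = (x - 1) * (((x - β) * (x - β ^ 2) * (x - β ^ 4)) *
      ((x - β ^ 3) * (x - β ^ 5) * (x - β ^ 6))) * x := by ring
    _ = 0 := by rw [e1, e2]; exact e3

omit [Fintype F] in
theorem pow_seven {β : F} (h2 : (2 : F) = 0) (hβ3 : β ^ 3 = β + 1) : β ^ 7 = 1 := by
  grind

set_option maxHeartbeats 4000000 in
/-- The case `q = 8`. -/
theorem main_eight (hF : Fintype.card F = 8 ^ 2) :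
    ∃ v g : SU 3 F 8, IsReg (mat v) ∧
      Subgroup.closure ({v, g * v * g⁻¹} : Set (SU 3 F 8)) = ⊤ := by
  obtain ⟨h2, ω, β, hω2, hω8, hβ3, hβ8⟩ := facts_eight hF
  obtain ⟨η, hη⟩ : ∃ η : F, η = β + ω := ⟨_, rfl⟩
  have hηq : η ^ 8 = β + ω + 1 := by rw [hη, add_pow_q hF, hβ8, hω8]; ring
  have hT1 : η + η ^ 8 = 1 := by rw [hηq, hη]; linear_combination (β + ω) * h2
  have hT : η + η ^ 8 ≠ 0 := by rw [hT1]; exact one_ne_zero
  have hβ0 : β ≠ 0 := by
    rintro rfl
    simp at hβ3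
  have hη0 : η ≠ 0 := by
    rintro rfl
    rw [zero_pow_q hF, add_zero] at hT
    exact hT rfl
  obtain ⟨v, f, e, hv, hve, hfe, hff, h1⟩ := exists_model_three hF hT
  have h1' : hermForm 3 F 8 f (act v f) = β + ω + 1 := by rw [herm_swap hF, h1, hηq]
  have hc2 : hermForm 3 F 8 (act v (act v f)) f = 1 := by
    rw [toeplitz_two hF hv hff h1]
    linear_combination η * h2 + hT1
  have hc2' : hermForm 3 F 8 f (act v (act v f)) = 1 := by
    rw [herm_swap hF, hc2, one_pow]
  have h11 : hermForm 3 F 8 (act v f) (act v f) = 0 := by rw [herm_act, hff]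
  have h22 : hermForm 3 F 8 (act v (act v f)) (act v (act v f)) = 0 := by
    rw [herm_act, herm_act, hff]
  have h21 : hermForm 3 F 8 (act v (act v f)) (act v f) = η := by rw [herm_act, h1]
  have h12 : hermForm 3 F 8 (act v f) (act v (act v f)) = β + ω + 1 := by rw [herm_act, h1']
  have hβ2q : (β ^ 2) ^ 8 = β ^ 2 := by rw [← pow_mul, mul_comm 2 8, pow_mul, hβ8]
  set w : Fin 3 → F := (β ^ 2 * η) • act v (act v f) + (β ^ 2) • act v f with hw
  have hwf : hermForm 3 F 8 w f = 0 := by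
    rw [hw, herm_add_left, herm_smul_left, herm_smul_left, hc2, h1, hη]
    linear_combination (β ^ 2 * (β + ω)) * h2
  have hww : hermForm 3 F 8 w w = β ^ 4 := by
    rw [hw]
    simp only [herm_add_left, herm_add_right hF, herm_smul_left, herm_smul_right, h11, h22, h12,
      h21, mul_pow (β ^ 2) η 8, hβ2q, hηq, hη]
    grind
  obtain ⟨μ, hμe⟩ : ∃ μ : F, μ = β + (β + β ^ 2) * ω := ⟨_, rfl⟩
  have hμq : μ ^ 8 = β + (β + β ^ 2) * (ω + 1) := by
    rw [hμe, add_pow_q hF, mul_pow, add_pow_q hF, hβ8, hβ2q, hω8]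
  have hμ : μ + μ ^ 8 + hermForm 3 F 8 w w = 0 := by
    rw [hww, hμq, hμe]
    grind
  have hwD : D3 (act v f) w f = (β ^ 2 * η) * D3 f (act v f) (act v (act v f)) := by
    rw [hw]
    simp only [D3_eq, Pi.add_apply, Pi.sub_apply, Pi.smul_apply, smul_eq_mul]
    ring
  obtain ⟨g, hg⟩ := conj_siegel hF hv hff h1 hT hwf hμ (a := β ^ 2 * η) (b := β ^ 2 * η)
    (mul_ne_zero (pow_ne_zero _ hβ0) hη0) hwD
    (by
      rw [hww]
      linear_combination -(β ^ 6 * η ^ 3) * h2)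
    (by
      rw [hww, hT1, mul_pow (β ^ 2) η 8, hβ2q]
      linear_combination -(β ^ 4 * η * η ^ 8) * h2)
  refine ⟨v, g, hv, ?_⟩
  rw [hg]
  set u := siegel hF f w μ hff hwf hμ with hu
  have hact : ∀ x, act u x = x + hermForm 3 F 8 x f • w +
      (μ * hermForm 3 F 8 x f - hermForm 3 F 8 x w) • f :=
    act_siegel hF hff hwf hμ
  set H := Subgroup.closure ({v, u} : Set (SU 3 F 8)) with hH
  have hvH : v ∈ H := Subgroup.subset_closure (by simp)
  have huH : u ∈ H := Subgroup.subset_closure (by simp)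
  have hfw := herm_eq_zero_swap hF hwf
  -- `u ^ 2` is a transvection
  have hcc : β ^ 4 + (β ^ 4) ^ 8 = 0 := by
    rw [← pow_mul, mul_comm 4 8, pow_mul, hβ8]
    linear_combination β ^ 4 * h2
  have hmem : utv hF f (β ^ 4) hff hcc ∈ H := by
    have : utv hF f (β ^ 4) hff hcc = u * u := by
      apply ext_act
      intro x
      rw [act_mul, act_utv, hact, hact]
      simp only [herm_add_left, herm_smul_left, hff, hwf, hfw, hww]
      match_scalars <;> grind
    rw [this]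
    exact mul_mem huH huH
  obtain ⟨r, hr⟩ : ∃ r : F, r = β ^ 2 * ω := ⟨_, rfl⟩
  have hN : r * r ^ 8 = β ^ 4 := by
    rw [hr, mul_pow, hβ2q, hω8]
    grind
  -- the relation
  have hx3 : act v (act v (act v f)) = act v (act v f) + act v f + f := by
    rw [cube_rel hv]
    match_scalars <;> grind
  have hxm : act v⁻¹ f = act v (act v f) + act v f + f := by
    rw [inv_rel hv]
    match_scalars <;> grind
  have hβ2q' : (β ^ 2 * η) ^ 8 = β ^ 2 * (β + ω + 1) := by
    rw [mul_pow, hβ2q, hηq]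
  have h1w : hermForm 3 F 8 (act v f) w = β ^ 2 * (β + ω + 1) * (β + ω + 1) := by
    rw [hw, herm_add_right hF, herm_smul_right, herm_smul_right, h12, h11, hβ2q']
    ring
  have h2w : hermForm 3 F 8 (act v (act v f)) w = β ^ 2 * η := by
    rw [hw, herm_add_right hF, herm_smul_right, herm_smul_right, h22, h21, hβ2q]
    ring
  have huv : act u (act v f) = act v f + η • w + (μ * η - β ^ 2 * (β + ω + 1) * (β + ω + 1)) • f := by
    rw [hact, h1, h1w]
  have huvv : act u (act v (act v f)) = act v (act v f) + w + (μ - β ^ 2 * η) • f := by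
    rw [hact, hc2, h2w, one_smul, mul_one]
  have huf : act u f = f := by
    rw [hact, hff, hfw]
    simp
  have hrel : act v (act u (act v f)) = r • act u (act v⁻¹ f) := by
    rw [hxm, act_add, act_add, huv, huvv, huf, hw, hr, hμe, hη]
    simp only [act_add, act_smul, hx3]
    match_scalars <;> grind
  have hkH : v * (u⁻¹ * (v * (u * v))) ∈ H :=
    mul_mem hvH (mul_mem (inv_mem huH) (mul_mem hvH (mul_mem huH hvH)))
  have hkf : act (v * (u⁻¹ * (v * (u * v)))) f = r • f := by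
    rw [act_mul, act_mul, act_mul, act_mul, hrel, act_smul, act_smul, act_inv_act, act_act_inv]
  have hfull : Full hF H f := by
    refine full_of_gen hF hff hcc (pow_ne_zero _ hβ0) hmem hkH hkf ?_
    intro x hx hx0
    rw [hN]
    have hx7 : (x - 1) * ((x - β) * ((x - β ^ 2) * ((x - β ^ 3) * ((x - β ^ 4) *
        ((x - β ^ 5) * (x - β ^ 6)))))) = 0 := by
      apply mul_right_cancel₀ hx0
      rw [zero_mul]
      exact split_eight h2 hβ3 hx
    have hb7 : β ^ 7 = 1 := pow_seven h2 hβ3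
    rcases mul_eq_zero.1 hx7 with h | h
    · exact ⟨0, by linear_combination h⟩
    rcases mul_eq_zero.1 h with h | h
    · exact ⟨2, by linear_combination h - β * hb7⟩
    rcases mul_eq_zero.1 h with h | h
    · exact ⟨4, by linear_combination h - β ^ 2 * (1 + β ^ 7) * hb7⟩
    rcases mul_eq_zero.1 h with h | h
    · exact ⟨6, by linear_combination h - β ^ 3 * (1 + β ^ 7 + β ^ 14) * hb7⟩
    rcases mul_eq_zero.1 h with h | h
    · exact ⟨1, by linear_combination h⟩
    rcases mul_eq_zero.1 h with h | h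
    · exact ⟨3, by linear_combination h - β ^ 5 * hb7⟩
    · exact ⟨5, by linear_combination h - β ^ 6 * (1 + β ^ 7) * hb7⟩
  exact top_three hF (by norm_num) hvH hv hve hfe hfull h1 hT

end Cfsg.Agent.H108.Three
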