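import Cfsg.Agent.H509.WeakBlock
import Cfsg.Agent.H326.Four.RowON
import Cfsg.Agent.H19.Odd.ON
import Cfsg.Agent.H999.ONFiveCent

/-!
# S4095 at the prime 2: the O'Nan group (helper108)

* `core_bot` : `O_2(C) = 1` if a Sylow `q`-subgroup of `C` is too large to act on `O_2(C)`;
* `FactA.of_equiv`, `FactB.of_equiv` : the two facts along isomorphisms;
* `factA_ON`, `factB_ON`, `row` : **the row of the O'Nan group**.
-/

set_option autoImplicit false
set_option maxRecDepth 100000

namespace Cfsg.Agent.H108.WkON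

open Subgroup Cfsg
open Cfsg.Agent.H509.Weak
open Cfsg.Spor (ON)
open Cfsg.Agent.SporadicB.ON45Word (on)
open Cfsg.Agent.KFacts.ON.Words (vv v)
open Cfsg.Agent.KFacts.ON.Struct
open Cfsg.Agent.KFacts.ON.Cent (hON finite_ON card_K0)
open Cfsg.Agent.ONType.TupK (K0)
open Cfsg.Agent.Blocks.LocalRing
open Cfsg.Agent.H652.Four

universe u v

/-! ### Generic -/

/-- **`O_2(C) = 1`** if a Sylow `q`-subgroup of `C` is too large to act on `O_2(C)`. -/
theorem core_bot {G : Type*} [Group G] [Finite G] {q : ℕ} [hq : Fact q.Prime] {a b : ℕ} {C : Subgroup G}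
    (hC : q ^ a ∣ Nat.card C) (hO : Nat.card (pCore 2 C) ≤ q ^ b)
    (hz : ∀ z : G, orderOf z = 2 → ¬ q ^ (a + 1 - b) ∣ Nat.card (centralizer ({z} : Set G))) : pCore 2 C = ⊥ := by
  classical
  by_contra hne
  have f2 : Fact (Nat.Prime 2) := ⟨Nat.prime_two⟩
  have hp : IsPGroup 2 (pCore 2 C) := Lib.Cores.pCore_isPGroup 2
  have hn : (pCore 2 C).Normal := Lib.Cores.pCore_normal 2
  obtain ⟨k, hk⟩ := IsPGroup.iff_card.1 hp
  have h2 : 2 ∣ Nat.card (pCore 2 C) := by
    rw [hk]
    refine dvd_pow_self 2 ?_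
    rintro rfl
    rw [pow_zero] at hk
    exact hne (card_eq_one.1 hk)
  obtain ⟨x, hx⟩ := exists_prime_orderOf_dvd_card' 2 h2
  obtain ⟨T⟩ : Nonempty (Sylow q C) := inferInstance
  have hT : q ^ a ∣ Nat.card T := T.pow_dvd_card_of_pow_dvd_card hC
  let inst : MulAction T C := MulAction.compHom C ((MulAut.conj : C →* MulAut C).comp (T : Subgroup C).subtype)
  have hsm : ∀ (t : T) (c : C), t • c = (t : C) * c * (t : C)⁻¹ := fun t c => rfl
  have horb : MulAction.orbit T (x : C) ⊆ ((pCore 2 C : Subgroup C) : Set C) \ {1} := by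
    rintro _ ⟨t, rfl⟩
    change t • (x : C) ∈ _
    rw [hsm]
    refine ⟨hn.conj_mem _ x.2 _, ?_⟩
    intro h
    rw [Set.mem_singleton_iff, conj_eq_one_iff] at h
    rw [← Subgroup.orderOf_coe, h, orderOf_one] at hx
    omega
  have hidx : (MulAction.stabilizer T (x : C)).index < q ^ b := by
    rw [MulAction.index_stabilizer]
    have h1 := Set.ncard_le_ncard horb (Set.toFinite _)
    rw [Set.ncard_sdiff_singleton_of_mem (one_mem (pCore 2 C))] at h1
    have h2 : ((pCore 2 C : Subgroup C) : Set C).ncard = Nat.card (pCore 2 C) := rfl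
    rw [h2] at h1
    have h3 : 0 < Nat.card (pCore 2 C) := Nat.card_pos
    omega
  have hmul := (MulAction.stabilizer T (x : C)).card_mul_index
  obtain ⟨n, hn⟩ := IsPGroup.iff_card.1 T.isPGroup'
  rw [hn] at hmul
  obtain ⟨i, -, hi⟩ := (Nat.dvd_prime_pow hq.1).1 (Dvd.intro_left _ hmul)
  obtain ⟨m, -, hm⟩ := (Nat.dvd_prime_pow hq.1).1 (Dvd.intro _ hmul)
  rw [hi] at hidx
  have hib : i < b := (Nat.pow_lt_pow_iff_right hq.1.one_lt).1 hidx
  rw [hi, hm, ← pow_add] at hmul
  have hmi : m + i = n := Nat.pow_right_injective hq.1.two_le hmul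
  have han : a ≤ n := by
    have h1 : q ^ a ∣ q ^ n := by rw [← hn]; exact hT
    exact (Nat.pow_dvd_pow_iff_le_right hq.1.one_lt).1 h1
  apply hz ((x : C) : G)
  · rw [Subgroup.orderOf_coe, Subgroup.orderOf_coe, hx]
  · refine (pow_dvd_pow q (show a + 1 - b ≤ m by omega)).trans ?_
    rw [← hm]
    refine Subgroup.card_dvd_of_injective
      (⟨⟨fun t => ⟨((t : T) : C), ?_⟩, ?_⟩, ?_⟩ : MulAction.stabilizer T (x : C) →* centralizer ({((x : C) : G)} : Set G)) ?_
    · rw [mem_centralizer_singleton_iff]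
      have h1 : (t : T) • (x : C) = x := t.2
      rw [hsm, mul_inv_eq_iff_eq_mul] at h1
      exact congrArg Subtype.val h1
    · rfl
    · intro s t
      rfl
    · intro s t hst
      exact Subtype.ext (Subtype.ext (Subtype.ext
        (congrArg (fun z : centralizer ({((x : C) : G)} : Set G) => (z : G)) hst)))

section

variable {L : Type u} [Group L] {K : Type v} [Group K]

/-- the centralizers correspond -/
noncomputable def centE (e : L ≃* K) (y : L) :
    ↥(centralizer ({y} : Set L)) ≃* ↥(centralizer ({e y} : Set K)) :=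
  (e.subgroupMap (centralizer ({y} : Set L))).trans (MulEquiv.subgroupCongr (by
    ext g
    rw [mem_centralizer_singleton_iff]
    constructor
    · rintro ⟨s, hs, rfl⟩
      have h1 := mem_centralizer_singleton_iff.1 hs
      change e s * e y = e y * e s
      rw [← map_mul, ← map_mul, h1]
    · intro h
      refine ⟨e.symm g, ?_, e.apply_symm_apply g⟩
      change e.symm g ∈ centralizer ({y} : Set L)
      rw [mem_centralizer_singleton_iff]
      apply e.injective
      rw [map_mul, map_mul, e.apply_symm_apply]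
      exact h))

theorem factA_of_equiv (e : L ≃* K) (h : FactA K) : FactA L := by
  obtain ⟨Q, hQ, h⟩ := h
  have hc : Nat.card (Q.comap e.toMonoidHom) = Nat.card Q :=
    Nat.card_congr ((e.symm.subgroupMap Q).symm.toEquiv.symm.trans (MulEquiv.subgroupCongr (by
      ext g
      constructor
      · rintro ⟨s, hs, rfl⟩
        change e (e.symm s) ∈ Q
        rwa [e.apply_symm_apply]
      · intro hg
        exact ⟨e g, hg, e.symm_apply_apply g⟩)).toEquiv).symm
  refine ⟨Q.comap e.toMonoidHom, by rw [hc]; exact hQ, fun w hw hw2 => ?_⟩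
  rw [← e.orderOf_eq w] at hw hw2
  rcases h (e w) hw hw2 with h1 | h1
  · exact Or.inl (pCore_equiv (centE e w).symm h1)
  · right
    rw [hc, Nat.card_congr (centE e w).toEquiv]
    exact h1

/-- the second fact from one class of elements of order `q` in an isomorphic group -/
theorem factB_of_order (e : L ≃* K) [Finite L] {q : ℕ} {y : K} (hy : orderOf y = q) (hq : q ≠ 1)
    (hc : ∀ z : K, orderOf z = q → IsConj y z) (hO : pCore 2 ↥(centralizer ({y} : Set K)) = ⊥)
    (hN : ∀ M : Ideal AlgInt, IsPModular 2 M → NN M (cl y)) : FactB L := by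
  refine FactB.of_cl (y := e.symm y) ?_ ?_ ?_ ?_
  · intro h
    apply hq
    rw [← hy, ← e.symm.orderOf_eq y, h, orderOf_one]
  · exact pCore_equiv (centE e.symm y) hO
  · intro β
    have h1 : orderOf (e (β (e.symm y))) = q := by
      rw [e.orderOf_eq, β.orderOf_eq, e.symm.orderOf_eq, hy]
    obtain ⟨g, hg⟩ := isConj_iff.1 (hc _ h1)
    refine isConj_iff.2 ⟨e.symm g, e.injective ?_⟩
    rw [map_mul, map_mul, map_inv, e.apply_symm_apply, e.apply_symm_apply, hg]
  · intro M hM
    refine NN.of_equiv e ?_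
    rw [e.apply_symm_apply]
    exact hN M hM

end

/-! ### The O'Nan group -/

theorem card_inv {z : ON} (hz : orderOf z = 2) : Nat.card ↥(centralizer ({z} : Set ON)) = 161280 := by
  have hfin := finite_ON
  have hi1 : z * z = 1 := by rw [← pow_two, ← hz, pow_orderOf_eq_one]
  have hi2 : z ≠ 1 := by
    rintro rfl
    rw [orderOf_one] at hz
    omega
  obtain ⟨h, hh⟩ := isConj_iff.1 (KFacts.ON.OneClass.one_class hi1 hi2)
  rw [H19.Odd.Heis.card_cent_eq (g := h) (y := on .f) (by rw [hh])]
  exact KFacts.ON.Cent.card_cent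

/-- the elements of order 3 -/
theorem core_three {w : ON} (hw : orderOf w = 3) : pCore 2 ↥(centralizer ({w} : Set ON)) = ⊥ := by
  have hfin := finite_ON
  have f2 : Fact (Nat.Prime 2) := ⟨Nat.prime_two⟩
  have f3 : Fact (Nat.Prime 3) := ⟨Nat.prime_three⟩
  have hc := H999.ONFiveCent.card_cent_three hw
  refine core_bot (q := 3) (a := 4) (b := 2) (by rw [hc]; norm_num) ?_ fun z hz => by
    rw [card_inv hz]
    norm_num
  have h1 := card_subgroup_dvd_card (pCore 2 ↥(centralizer ({w} : Set ON)))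
  obtain ⟨k, hk⟩ := IsPGroup.iff_card.1 (Lib.Cores.pCore_isPGroup (G := ↥(centralizer ({w} : Set ON))) 2)
  rw [hk, hc] at h1
  have hk3 : k < 4 := by
    by_contra h
    have h2 : 2 ^ 4 ∣ 3240 := (pow_dvd_pow 2 (by omega)).trans h1
    revert h2
    norm_num
  rw [hk]
  interval_cases k <;> norm_num

/-- the elements of order 7 -/
theorem core_seven {w : ON} (hw : orderOf w = 7) (h2 : 2 ∣ Nat.card ↥(centralizer ({w} : Set ON))) :
    pCore 2 ↥(centralizer ({w} : Set ON)) = ⊥ := by
  have hfin := finite_ON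
  have f2 : Fact (Nat.Prime 2) := ⟨Nat.prime_two⟩
  have f7 : Fact (Nat.Prime 7) := ⟨by norm_num⟩
  obtain ⟨i, hi, hiu⟩ := H474.ONC.exists_comm Nat.prime_two h2
  obtain ⟨h, h1, -⟩ := H19.Odd.ONSeven.into hw hi hiu.symm
  have hc := H19.Odd.ONEl.card_cent_of_conj H474.ONC.order_x7 hw h1
  obtain ⟨P, hP, hPx⟩ := H19.Odd.ONSeven.exists_P0
  have h343 : 343 ∣ Nat.card ↥(centralizer ({w} : Set ON)) := by
    rw [hc, ← hP]
    exact card_dvd_of_le fun a ha => mem_centralizer_singleton_iff.2 (hPx a ha)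
  refine core_bot (q := 7) (a := 3) (b := 1) (by simpa using h343) ?_ fun z hz => by
    rw [card_inv hz]
    norm_num
  obtain ⟨k, hk⟩ := IsPGroup.iff_card.1 (Lib.Cores.pCore_isPGroup (G := ↥(centralizer ({w} : Set ON))) 2)
  have h3 := card_subgroup_dvd_card (pCore 2 ↥(centralizer ({w} : Set ON)))
  rw [hk, hc] at h3
  obtain ⟨S, hS⟩ := H474.ONC.loc7.exists_sylow
  have hS4 : Nat.card S = 2 ^ 2 := by
    have h4 : Nat.card ((S : Subgroup ↥(centralizer ({H474.ONC.x7} : Set ON))).map
        (centralizer ({H474.ONC.x7} : Set ON)).subtype) = Nat.card S := by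
      rw [Nat.card_congr (equivMapOfInjective _ _ (subtype_injective _)).toEquiv.symm]
    rw [← h4, hS, Nat.card_zpowers, H474.ONC.order_v]
    norm_num
  have hk3 : k ≤ 2 := by
    have h5 : 2 ^ k ∣ Nat.card S := S.pow_dvd_card_of_pow_dvd_card h3
    rw [hS4] at h5
    exact (Nat.pow_dvd_pow_iff_le_right (by norm_num)).1 h5
  rw [hk]
  interval_cases k <;> norm_num

theorem factA_ON : FactA ON := by
  have hfin := finite_ON
  have f2 : Fact (Nat.Prime 2) := ⟨Nat.prime_two⟩
  obtain ⟨Q, hQ, -⟩ := H19.Odd.ONSeven.exists_P0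
  refine ⟨Q, by rw [hQ]; decide, fun w hw hw2 => ?_⟩
  rw [hQ]
  rcases Cfsg.Agent.H19.Odd.ON.prime_cases hw (by rw [← H474.ONC.card_ON]; exact orderOf_dvd_natCard w) with
    h | h | h | h | h | h | h
  · exact absurd h hw2
  · exact Or.inl (core_three h)
  · right
    rw [H474.ONC.card_cent_five h]
    norm_num
  · by_cases h2 : 2 ∣ Nat.card ↥(centralizer ({w} : Set ON))
    · exact Or.inl (core_seven h h2)
    · left
      obtain ⟨k, hk⟩ := IsPGroup.iff_card.1 (Lib.Cores.pCore_isPGroup (G := ↥(centralizer ({w} : Set ON))) 2)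
      have h3 := card_subgroup_dvd_card (pCore 2 ↥(centralizer ({w} : Set ON)))
      rw [hk] at h3
      have hk0 : k = 0 := by
        by_contra hk0
        exact h2 ((dvd_pow_self 2 hk0).trans h3)
      rw [hk0, pow_zero] at hk
      exact card_eq_one.1 hk
  · right
    rw [H474.ONC.card_cent_eleven h]
    norm_num
  · right
    rw [H19.Odd.ONEl.card_nineteen h]
    norm_num
  · right
    rw [H19.Odd.ONEl.card_31 h]
    norm_num

/-- `NN` for the class of elements of order 3 -/
theorem exists_nn : ∃ x : ON, orderOf x = 3 ∧ ∀ M : Ideal AlgInt, IsPModular 2 M → NN M (cl x) := by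
  have hfin := finite_ON
  have f3 : Fact (Nat.Prime 3) := ⟨Nat.prime_three⟩
  obtain ⟨π, hs, hk⟩ := H326.Four.RowON.exists_proj
  have hord : orderOf (v : ON) = 2 ^ 2 := by
    have : Fact (Nat.Prime 2) := ⟨Nat.prime_two⟩
    refine orderOf_eq_prime_pow ?_ ?_
    · rw [pow_one, pow_two, vv]
      exact f_ne_one
    · rw [pow_succ, pow_one, pow_mul, pow_two v, vv, pow_two]
      exact ff
  have hc : 3 ∣ Nat.card (centralizer ((zpowers (v : ON) : Subgroup ON) : Set ON)) := by
    have h1 : Nat.card ONType.Psl.PSL3 ∣ Nat.card (centralizer ((zpowers (v : ON) : Subgroup ON) : Set ON)) :=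
      card_dvd_of_surjective (π.comp (MulEquiv.subgroupCongr H326.Four.RowON.cent_eq).toMonoidHom)
        (hs.comp (MulEquiv.subgroupCongr H326.Four.RowON.cent_eq).surjective)
    have h2 : 3 ∣ Nat.card ONType.Psl.PSL3 := by
      rw [Cfsg.Agent.ONType.PslCard.card_PSL3]
      norm_num
    exact h2.trans h1
  obtain ⟨c, hc⟩ := exists_prime_orderOf_dvd_card' 3 hc
  refine ⟨c, by rw [Subgroup.orderOf_coe]; exact hc, fun M hM => ?_⟩
  refine H326.Four.nn_of_cent hM (P := zpowers (v : ON)) ?_ ?_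
    (π.comp (MulEquiv.subgroupCongr H326.Four.RowON.cent_eq).toMonoidHom) ?_ ?_
    (by rw [Subgroup.orderOf_coe]; exact hc) c.2
  · exact IsPGroup.of_card (n := 2) (by rw [Nat.card_zpowers, hord])
  · rw [H326.Four.RowON.cent_eq, zpowers_le]
    exact vJ
  · exact hs.comp (MulEquiv.subgroupCongr H326.Four.RowON.cent_eq).surjective
  · intro c hc
    have h1 : (MulEquiv.subgroupCongr H326.Four.RowON.cent_eq) c ∈ π.ker := hc
    rw [hk] at h1
    apply cent_J
    intro y hy
    have h2 := mem_center_iff.1 h1 ⟨y, hy⟩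
    exact (congrArg Subtype.val h2).symm

theorem factB_ON {L : Type u} [Group L] [Finite L] (e : L ≃* ON) : FactB L := by
  obtain ⟨x, hx, hN⟩ := exists_nn
  exact factB_of_order e hx (by norm_num) (fun z hz => H999.ONFiveCent.isConj_three hx hz) (core_three hx) hN

/-- **S4095 at the prime 2 for the O'Nan group.** -/
theorem row {L : Type u} [Group L] [Finite L] (h : Cfsg.Spor.IsoON L) (B : Base L) :
    Cfsg.Agent.H516.Row 2 L := by
  obtain ⟨e⟩ := h
  exact row_of_facts B (factA_of_equiv e factA_ON) (factB_ON e)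

end Cfsg.Agent.H108.WkON
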